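/-
Even permutations of `p`-power order are products, inside common `p`-groups, of commuting small ones.
-/
import Mathlib

set_option autoImplicit false

namespace CfsgLib.FusionSimple.Alt

open Equiv Equiv.Perm

variable {α : Type*} [Fintype α] [DecidableEq α] {p : ℕ} [hp : Fact p.Prime]

/-- A set of pairwise commuting elements of `p`-power order generates a `p`-group. -/
theorem isPGroup_closure_of_commute {G : Type*} [Group G] {X : Set G}
    (hc : ∀ a ∈ X, ∀ b ∈ X, Commute a b) (ho : ∀ a ∈ X, ∃ k : ℕ, a ^ p ^ k = 1) :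
    IsPGroup p (Subgroup.closure X) := by
  rintro ⟨g, hg⟩
  suffices h : ∃ k : ℕ, g ^ p ^ k = 1 by
    obtain ⟨k, hk⟩ := h
    exact ⟨k, Subtype.ext hk⟩
  have hcomm : ∀ a ∈ Subgroup.closure X, ∀ b ∈ Subgroup.closure X, Commute a b := fun a ha b hb => by
    have : IsMulCommutative (Subgroup.closure X) :=
      Subgroup.isMulCommutative_closure fun x hx y hy => hc x hx y hy
    exact congrArg Subtype.val (mul_comm' (⟨a, ha⟩ : Subgroup.closure X) ⟨b, hb⟩)
  induction hg using Subgroup.closure_induction with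
  | mem a ha => exact ho a ha
  | one => exact ⟨0, one_pow _⟩
  | mul a b ha hb iha ihb =>
    obtain ⟨i, hi⟩ := iha
    obtain ⟨j, hj⟩ := ihb
    refine ⟨i + j, ?_⟩
    rw [(hcomm a ha b hb).mul_pow, pow_add, pow_mul, hi, one_pow, one_mul, mul_comm, pow_mul, hj,
      one_pow]
  | inv a _ ih =>
    obtain ⟨i, hi⟩ := ih
    exact ⟨i, by rw [inv_pow, hi, inv_one]⟩

/-- The cycles of a permutation pairwise commute. -/
theorem commute_cycleOf (σ : Perm α) (b c : α) : Commute (σ.cycleOf b) (σ.cycleOf c) := by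
  by_cases hb : σ b = b
  · rw [(cycleOf_eq_one_iff σ).2 hb]; exact Commute.one_left _
  by_cases hc : σ c = c
  · rw [(cycleOf_eq_one_iff σ).2 hc]; exact Commute.one_right _
  exact σ.cycleFactorsFinset_mem_commute' (cycleOf_mem_cycleFactorsFinset_iff.2 (mem_support.2 hb))
    (cycleOf_mem_cycleFactorsFinset_iff.2 (mem_support.2 hc))

theorem cycleOf_pow_eq_one {σ : Perm α} {N : ℕ} (h : σ ^ N = 1) (b : α) : σ.cycleOf b ^ N = 1 := by
  ext c
  rw [Perm.one_apply]
  by_cases hc : σ.SameCycle b c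
  · obtain ⟨i, rfl⟩ := hc.exists_nat_pow_eq
    have hb : (σ.cycleOf b ^ N) b = b := by rw [cycleOf_pow_apply_self, h, Perm.one_apply]
    rw [← cycleOf_pow_apply_self σ b i, ← Perm.mul_apply, ← pow_add, add_comm, pow_add,
      Perm.mul_apply, hb]
  · exact pow_apply_eq_self_of_apply_eq_self (by rw [cycleOf_apply, if_neg hc]) _

/-- The sign of a cycle of `2`-power order. -/
theorem sign_cycle_two {σ : Perm α} (hσ : σ.IsCycle) {k : ℕ} (h : σ ^ 2 ^ k = 1) :
    Perm.sign σ = -1 := by
  obtain ⟨j, -, hj⟩ := (Nat.dvd_prime_pow Nat.prime_two).1 (orderOf_dvd_of_pow_eq_one h)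
  rw [hσ.orderOf] at hj
  rw [hσ.sign, hj]
  rcases j with _ | j
  · have := hσ.two_le_card_support
    omega
  · rw [pow_succ' (2 : ℕ), pow_mul]
    simp

/-- Measure for the induction: the points moved by the `p`-th power. -/
def weight (p : ℕ) (x : Perm α) : ℕ := (x ^ p).support.card

/-- The key decomposition. -/
theorem exists_factors {x : Perm α} (hx : ∃ k : ℕ, x ^ p ^ k = 1) (hs : x ∈ alternatingGroup α)
    (hxp : x ^ p ≠ 1) :
    ∃ (Q : Subgroup (Perm α)) (u t : Perm α), IsPGroup p Q ∧ u ∈ Q ∧ t ∈ Q ∧ x = u * t ∧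
      u ∈ alternatingGroup α ∧ t ∈ alternatingGroup α ∧ t ^ p = 1 ∧ weight p u < weight p x := by
  obtain ⟨N, hN⟩ := hx
  obtain ⟨a, ha⟩ : ∃ a, (x ^ p) a ≠ a := by
    by_contra h
    push Not at h
    exact hxp (Perm.ext h)
  set y := x.cycleOf a with hy
  set v := (x ^ p).cycleOf (x a) with hv
  set r := x * y⁻¹ with hr
  have hya : x a ≠ a := fun h => ha (pow_apply_eq_self_of_apply_eq_self h p)
  have hcyc : y.IsCycle := isCycle_cycleOf x hya
  have hdis : r.Disjoint y :=
    (disjoint_mul_inv_of_mem_cycleFactorsFinset (cycleOf_mem_cycleFactorsFinset_iff.2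
      (mem_support.2 hya)))
  have hxry : x = r * y := by rw [hr, inv_mul_cancel_right]
  have hyN : y ^ p ^ N = 1 := cycleOf_pow_eq_one hN a
  have hrN : r ^ p ^ N = 1 := by
    have h := hdis.commute.mul_pow (p ^ N)
    rwa [← hxry, hN, hyN, mul_one, eq_comm] at h
  -- points of the cycle
  have hxy : ∀ c, x.SameCycle a c → y c = x c := fun c hc => by rw [hy, cycleOf_apply, if_pos hc]
  have hxz : ∀ i : ℤ, x.SameCycle a ((x ^ i) a) := fun i => ⟨i, rfl⟩
  have hper : ∀ i : ℤ, (x ^ i) a = a → (p : ℤ) ∣ i := by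
    intro i hi
    by_contra hnd
    have hg : IsCoprime i ((p ^ N : ℕ) : ℤ) := by
      rw [Nat.cast_pow]
      exact (((Nat.prime_iff_prime_int.1 hp.out).coprime_iff_not_dvd).2 hnd).symm.pow_right
    obtain ⟨s, t, hst⟩ := hg
    apply hya
    have h1 : x ^ (1 : ℤ) = (x ^ i) ^ s * (x ^ ((p ^ N : ℕ) : ℤ)) ^ t := by
      rw [← zpow_mul, ← zpow_mul, ← zpow_add, mul_comm i, mul_comm ((p ^ N : ℕ) : ℤ), hst]
    rw [zpow_one, zpow_natCast, hN, one_zpow, mul_one] at h1
    rw [h1]
    exact zpow_apply_eq_self_of_apply_eq_self hi s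
  have hsame : ∀ i : ℤ, (x ^ p).SameCycle (x a) ((x ^ i) a) ↔ (p : ℤ) ∣ i - 1 := by
    intro i
    constructor
    · rintro ⟨s, hs⟩
      have e : x ^ ((p : ℤ) * s + 1) = (x ^ p) ^ s * x := by
        rw [zpow_add, zpow_mul, zpow_natCast, zpow_one]
      rw [← Perm.mul_apply, ← e] at hs
      have h1 : (x ^ ((p : ℤ) * s + 1 - i)) a = a := by
        rw [sub_eq_neg_add, zpow_add, Perm.mul_apply, hs, ← Perm.mul_apply, ← zpow_add,
          neg_add_cancel, zpow_zero, Perm.one_apply]
      have h2 := hper _ h1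
      have : i - 1 = (p : ℤ) * s - ((p : ℤ) * s + 1 - i) := by ring
      rw [this]
      exact dvd_sub (dvd_mul_right _ _) h2
    · rintro ⟨s, hs⟩
      refine ⟨s, ?_⟩
      rw [← Perm.mul_apply, ← zpow_natCast x p, ← zpow_mul, ← zpow_add_one]
      congr 2
      omega
  have hvapply : ∀ i : ℤ, v ((x ^ i) a) = if (p : ℤ) ∣ i - 1 then (x ^ (i + p)) a else (x ^ i) a := by
    intro i
    rw [hv, cycleOf_apply]
    by_cases h : (p : ℤ) ∣ i - 1
    · rw [if_pos ((hsame i).2 h), if_pos h, ← Perm.mul_apply, ← zpow_natCast x p, ← zpow_add, add_comm]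
    · rw [if_neg (mt (hsame i).1 h), if_neg h]
  have hvout : ∀ c, ¬ x.SameCycle a c → v c = c := fun c hc => by
    rw [hv, cycleOf_apply, if_neg]
    exact fun h => hc (SameCycle.trans (show x.SameCycle a (x a) from ⟨1, by rw [zpow_one]⟩) h.of_pow)
  set t := v⁻¹ * y with ht
  have htapply : ∀ i : ℤ, t ((x ^ i) a) =
      if (p : ℤ) ∣ i then (x ^ (i + 1 - p)) a else (x ^ (i + 1)) a := by
    intro i
    rw [ht, Perm.mul_apply, hxy _ (hxz i), ← Perm.mul_apply x, ← zpow_one_add, add_comm 1 i,
      Perm.inv_eq_iff_eq]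
    by_cases h : (p : ℤ) ∣ i
    · rw [if_pos h, hvapply, if_pos]
      · congr 2; ring
      · obtain ⟨s, hs⟩ := h
        exact ⟨s - 1, by rw [hs]; ring⟩
    · rw [if_neg h, hvapply, if_neg]
      simpa using h
  have htout : ∀ c, ¬ x.SameCycle a c → t c = c := fun c hc => by
    rw [ht, Perm.mul_apply, hy, cycleOf_apply, if_neg hc, Perm.inv_eq_iff_eq, hvout c hc]
  have hp0 : (p : ℤ) ≠ 0 := by exact_mod_cast hp.out.ne_zero
  have hiter : ∀ (s : ℤ) (n : ℕ), n < p →
      (t ^ n) ((x ^ ((p : ℤ) * s + 1)) a) = (x ^ ((p : ℤ) * s + 1 + n)) a := by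
    intro s n
    induction n with
    | zero => intro; simp
    | succ n ih =>
      intro hn
      rw [pow_succ', Perm.mul_apply, ih (by omega), htapply, if_neg, Nat.cast_succ, add_assoc]
      intro h
      have h2 : (p : ℤ) ∣ ((n + 1 : ℕ) : ℤ) := by
        rw [Nat.cast_succ]
        have h3 := dvd_sub h (dvd_mul_right (p : ℤ) s)
        rwa [show (p : ℤ) * s + 1 + n - p * s = n + 1 by ring] at h3
      exact Nat.not_dvd_of_pos_of_lt (by omega) hn (Int.natCast_dvd_natCast.1 h2)
  have htp : t ^ p = 1 := by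
    refine Perm.ext fun c => ?_
    rw [Perm.one_apply]
    by_cases hc : x.SameCycle a c
    · obtain ⟨i, rfl⟩ := hc
      set n := ((i - 1) % (p : ℤ)).toNat
      set s := (i - 1) / (p : ℤ)
      have h0 := Int.emod_nonneg (i - 1) hp0
      have h1 := Int.emod_lt_of_pos (i - 1) (show (0 : ℤ) < p by exact_mod_cast hp.out.pos)
      have hn : n < p := by omega
      have hi : i = (p : ℤ) * s + 1 + n := by
        have := Int.mul_ediv_add_emod (i - 1) (p : ℤ)
        have hs0 : (p : ℤ) * ((i - 1) / (p : ℤ)) = (p : ℤ) * s := rfl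
        omega
      have hp1 : (t ^ p) ((x ^ ((p : ℤ) * s + 1)) a) = (x ^ ((p : ℤ) * s + 1)) a := by
        have hpp : p - 1 < p := by have := hp.out.pos; omega
        rw [show p = p - 1 + 1 from (Nat.sub_add_cancel hp.out.one_le).symm, pow_succ',
          Nat.sub_add_cancel hp.out.one_le, Perm.mul_apply, hiter s (p - 1) hpp, htapply, if_pos]
        · congr 2
          rw [Nat.cast_sub hp.out.one_le]; push_cast; ring
        · refine ⟨s + 1, ?_⟩
          rw [Nat.cast_sub hp.out.one_le]; push_cast; ring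
      rw [hi, ← hiter s n hn, ← Perm.mul_apply, ← pow_add, add_comm, pow_add, Perm.mul_apply, hp1]
    · exact pow_apply_eq_self_of_apply_eq_self (htout c hc) p
  have hrc : ∀ c, x.SameCycle a c → r c = c := fun c hc => by
    refine (hdis c).resolve_right ?_
    rw [hxy c hc]
    intro h
    exact hya (hc.apply_eq_self_iff.2 h)
  have hrout : ∀ c, ¬ x.SameCycle a c → r c = x c := fun c hc => by
    rw [hr, Perm.mul_apply]
    congr 1
    rw [Perm.inv_eq_iff_eq, hy, cycleOf_apply, if_neg hc]
  -- the abelian normal part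
  set X : Set (Perm α) := insert r {w | ∃ i : ℤ, w = (x ^ p).cycleOf ((x ^ i) a)}
  have hXout : ∀ i : ℤ, ((x ^ p).cycleOf ((x ^ i) a)).Disjoint r := by
    intro i c
    by_cases hc : x.SameCycle a c
    · exact Or.inr (hrc c hc)
    · left
      rw [cycleOf_apply, if_neg]
      exact fun h => hc ((hxz i).trans h.of_pow)
  have hA : IsPGroup p (Subgroup.closure X) := by
    refine isPGroup_closure_of_commute ?_ ?_
    · rintro w (rfl | ⟨i, rfl⟩) w' (rfl | ⟨j, rfl⟩)
      · exact Commute.refl _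
      · exact (hXout j).commute.symm
      · exact (hXout i).commute
      · exact commute_cycleOf _ _ _
    · rintro w (rfl | ⟨i, rfl⟩)
      · exact ⟨N, hrN⟩
      · exact ⟨N, cycleOf_pow_eq_one (by rw [← pow_mul, mul_comm, pow_mul, hN, one_pow]) _⟩
  have hnorm : Subgroup.zpowers y ≤ Subgroup.normalizer (Subgroup.closure X : Set (Perm α)) := by
    rw [Subgroup.zpowers_le]
    refine Subgroup.mem_normalizer_iff.2 ?_
    have key : ∀ z : Perm α, Commute z r → (∀ i : ℤ, ∃ j : ℤ, z * (x ^ p).cycleOf ((x ^ i) a) * z⁻¹ =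
        (x ^ p).cycleOf ((x ^ j) a)) → ∀ w ∈ Subgroup.closure X, z * w * z⁻¹ ∈ Subgroup.closure X := by
      intro z hz hzc w hw
      induction hw using Subgroup.closure_induction with
      | mem w hw =>
        refine Subgroup.subset_closure ?_
        rcases hw with rfl | ⟨i, rfl⟩
        · left; rw [hz.eq, mul_inv_cancel_right]
        · right; exact hzc i
      | one => simp
      | mul a b _ _ iha ihb =>
        rw [show z * (a * b) * z⁻¹ = z * a * z⁻¹ * (z * b * z⁻¹) by group]
        exact mul_mem iha ihb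
      | inv a _ ih =>
        rw [show z * a⁻¹ * z⁻¹ = (z * a * z⁻¹)⁻¹ by group]
        exact inv_mem ih
    have hyx : Commute y x := by
      rw [hxry]; exact (hdis.commute.symm).mul_right (Commute.refl y)
    have hc : ∀ z : Perm α, Commute z x → ∀ b, z * (x ^ p).cycleOf b * z⁻¹ = (x ^ p).cycleOf (z b) := by
      intro z hz b
      ext c
      rw [Perm.mul_apply, Perm.mul_apply]
      have hzp : ∀ d, z ((x ^ p) d) = (x ^ p) (z d) := fun d => by
        rw [← Perm.mul_apply, (hz.pow_right p).eq, Perm.mul_apply]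
      have hiff : (x ^ p).SameCycle b (z⁻¹ c) ↔ (x ^ p).SameCycle (z b) c := by
        constructor <;> rintro ⟨s, hs⟩ <;> refine ⟨s, ?_⟩
        · rw [← Perm.mul_apply, ← ((hz.pow_right p).zpow_right s).eq, Perm.mul_apply, hs]
          simp
        · rw [← Perm.mul_apply, ← ((hz.pow_right p).zpow_right s).eq, Perm.mul_apply] at hs
          rw [← hs]
          simp
      by_cases h : (x ^ p).SameCycle b (z⁻¹ c)
      · rw [cycleOf_apply, cycleOf_apply, if_pos h, if_pos (hiff.1 h), hzp]
        simp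
      · rw [cycleOf_apply, cycleOf_apply, if_neg h, if_neg (mt hiff.2 h)]
        simp
    intro w
    refine ⟨key y hdis.commute.symm (fun i => ⟨i + 1, ?_⟩) w, fun h => ?_⟩
    · rw [hc y hyx, hxy _ (hxz i), ← Perm.mul_apply, ← zpow_one_add, add_comm]
    · have := key y⁻¹ hdis.commute.symm.inv_left (fun i => ⟨i - 1, ?_⟩) _ h
      · simpa [mul_assoc] using this
      · rw [hc y⁻¹ hyx.inv_left]
        congr 1
        rw [Perm.inv_eq_iff_eq, hxy _ (hxz _), ← Perm.mul_apply, ← zpow_one_add, add_sub_cancel]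
  have hyP : IsPGroup p (Subgroup.zpowers y) := by
    obtain ⟨j, -, hj⟩ := (Nat.dvd_prime_pow hp.out).1 (orderOf_dvd_of_pow_eq_one hyN)
    exact IsPGroup.of_card (n := j) (by rw [Nat.card_zpowers, hj])
  have hvX : v ∈ Subgroup.closure X :=
    Subgroup.subset_closure (Or.inr ⟨1, by rw [zpow_one]⟩)
  have hsign : Perm.sign t = 1 := by
    rcases hp.out.eq_two_or_odd' with h2 | hodd
    · subst h2
      have hvc : v.IsCycle := isCycle_cycleOf (x ^ 2) fun h => ha (by
        have h1 : x ((x ^ 2) a) = x a := by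
          rw [← Perm.mul_apply, ← pow_succ', pow_succ, Perm.mul_apply]; exact h
        exact x.injective h1)
      rw [ht, map_mul, map_inv, sign_cycle_two hcyc hyN,
        sign_cycle_two hvc (cycleOf_pow_eq_one (σ := x ^ 2) (N := 2 ^ N)
          (by rw [← pow_mul, mul_comm, pow_mul, hN, one_pow]) _)]
      simp
    · have h1 : Perm.sign t ^ p = 1 := by rw [← map_pow, htp, map_one]
      rcases Int.units_eq_one_or (Perm.sign t) with h | h
      · exact h
      · rw [h, hodd.neg_one_pow] at h1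
        exact absurd h1 (by decide)
  have hout : ∀ c, ¬ x.SameCycle a c → ∀ n : ℕ, ((r * v) ^ n) c = (x ^ n) c := by
    intro c hc n
    induction n with
    | zero => rfl
    | succ n ih =>
      have hc' : ¬ x.SameCycle a ((x ^ n) c) := by rwa [sameCycle_pow_right]
      rw [pow_succ', Perm.mul_apply, ih, Perm.mul_apply, hvout _ hc', hrout _ hc', pow_succ',
        Perm.mul_apply]
  refine ⟨Subgroup.closure X ⊔ Subgroup.zpowers y, r * v, t,
    hA.to_sup_of_normal_left' hyP hnorm, ?_, ?_, ?_, ?_, ?_, htp, ?_⟩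
  · exact Subgroup.mem_sup_left (mul_mem (Subgroup.subset_closure (Or.inl rfl)) hvX)
  · exact mul_mem (Subgroup.mem_sup_left (inv_mem hvX))
      (Subgroup.mem_sup_right (Subgroup.mem_zpowers y))
  · rw [ht, ← mul_assoc, mul_inv_cancel_right, ← hxry]
  · rw [mem_alternatingGroup]
    have hsx := mem_alternatingGroup.1 hs
    have e : x = r * v * t := by rw [ht, ← mul_assoc, mul_inv_cancel_right, ← hxry]
    rw [e, map_mul, hsign, mul_one] at hsx
    exact hsx
  · exact mem_alternatingGroup.2 hsign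
  · refine Finset.card_lt_card (Finset.ssubset_iff_of_subset (fun c hc => ?_) |>.2 ⟨a, mem_support.2 ha, ?_⟩)
    · rw [mem_support] at hc ⊢
      by_cases h : x.SameCycle a c
      · intro hfix
        obtain ⟨i, rfl⟩ := h
        refine ha ((x ^ i).injective ?_)
        rw [← Perm.mul_apply, ← zpow_natCast x p, ← zpow_add, add_comm, zpow_add, zpow_natCast,
          Perm.mul_apply]
        exact hfix
      · rwa [hout c h p] at hc
    · rw [mem_support, not_not]
      refine pow_apply_eq_self_of_apply_eq_self ?_ p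
      have h := hvapply 0
      rw [zpow_zero, Perm.one_apply, if_neg] at h
      · rw [Perm.mul_apply, h, hrc a (SameCycle.refl x a)]
      · intro hd
        rw [zero_sub, dvd_neg] at hd
        exact hp.out.one_lt.ne' (by exact_mod_cast Int.eq_one_of_dvd_one (Int.natCast_nonneg p) hd)

end CfsgLib.FusionSimple.Alt
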