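/-
A nontrivial closed subgroup of a Sylow subgroup of an alternating group is everything.
-/
import Cfsg.Agent.FusionSimple.Alt.Decomp
import Cfsg.Agent.FusionSimple.Generic

set_option autoImplicit false

namespace CfsgLib.FusionSimple.Alt

open Equiv Equiv.Perm CfsgLib.FusionSimple

variable {α : Type*} [Fintype α] [DecidableEq α] {p : ℕ} [hp : Fact p.Prime]

/-- An even permutation with a conjugate in `T`. -/
def Good (T : Subgroup (alternatingGroup α)) (x : Perm α) : Prop :=
  ∃ (h : x ∈ alternatingGroup α) (g : alternatingGroup α), g * ⟨x, h⟩ * g⁻¹ ∈ T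

variable (S : Sylow p (alternatingGroup α)) {T : Subgroup (alternatingGroup α)}
  (hT : Closed (S : Subgroup (alternatingGroup α)) T)

omit hp in
theorem Good.conj {x : Perm α} (hx : Good T x) {g : Perm α} (hg : g ∈ alternatingGroup α) :
    Good T (g * x * g⁻¹) := by
  obtain ⟨h, k, hk⟩ := hx
  refine ⟨mul_mem (mul_mem hg h) (inv_mem hg), k * (⟨g, hg⟩ : alternatingGroup α)⁻¹, ?_⟩
  convert hk using 1
  apply Subtype.ext
  simp [mul_assoc]

include hT in
theorem good_mul {Q : Subgroup (Perm α)} (hQ : IsPGroup p Q) {x y : Perm α} (hx : x ∈ Q) (hy : y ∈ Q)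
    (gx : Good T x) (gy : Good T y) : Good T (x * y) := by
  obtain ⟨hxA, gx', hgx⟩ := gx
  obtain ⟨hyA, gy', hgy⟩ := gy
  have hQ' : IsPGroup p (Q.comap (alternatingGroup α).subtype) :=
    hQ.comap_of_injective _ Subtype.val_injective
  obtain ⟨R, hR⟩ := hQ'.exists_le_sylow
  obtain ⟨k, hk⟩ := MulAction.exists_smul_eq (alternatingGroup α) R S
  have key : ∀ (z : alternatingGroup α) (g : alternatingGroup α), z.1 ∈ Q → g * z * g⁻¹ ∈ T →
      k * z * k⁻¹ ∈ T := by
    intro z g hz hg
    have hS : k * z * k⁻¹ ∈ (S : Subgroup (alternatingGroup α)) := by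
      rw [← hk, Sylow.coe_subgroup_smul]
      exact ⟨z, hR hz, rfl⟩
    have e : (k * g⁻¹) * (g * z * g⁻¹) * (k * g⁻¹)⁻¹ = k * z * k⁻¹ := by group
    rw [← e]
    exact hT.2 _ hg _ (e.symm ▸ hS)
  refine ⟨mul_mem hxA hyA, k, ?_⟩
  have e : k * ⟨x * y, mul_mem hxA hyA⟩ * k⁻¹ = (k * ⟨x, hxA⟩ * k⁻¹) * (k * ⟨y, hyA⟩ * k⁻¹) := by
    rw [show (⟨x * y, mul_mem hxA hyA⟩ : alternatingGroup α) = ⟨x, hxA⟩ * ⟨y, hyA⟩ from rfl]
    group
  rw [e]
  exact mul_mem (key _ gx' hx hgx) (key _ gy' hy hgy)

omit hp in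
theorem good_one : Good T (1 : Perm α) := ⟨one_mem _, 1, by rw [one_mul, inv_one, mul_one]; exact one_mem T⟩

omit [Fintype α] [DecidableEq α] in
theorem isPGroup_pair {x y : Perm α} (h : Commute x y) (hx : x ^ p = 1) (hy : y ^ p = 1) :
    IsPGroup p (Subgroup.closure ({x, y} : Set (Perm α))) := by
  refine isPGroup_closure_of_commute ?_ ?_
  · rintro a (rfl | rfl) b (rfl | rfl)
    exacts [Commute.refl _, h, h.symm, Commute.refl _]
  · rintro a (rfl | rfl) <;> exact ⟨1, by rwa [pow_one]⟩

include hT in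
theorem good_mul_pair {x y : Perm α} (h : Commute x y) (hx : x ^ p = 1) (hy : y ^ p = 1)
    (gx : Good T x) (gy : Good T y) : Good T (x * y) :=
  good_mul S hT (isPGroup_pair h hx hy) (Subgroup.subset_closure (Or.inl rfl))
    (Subgroup.subset_closure (Or.inr rfl)) gx gy

include hT in
/-- Reduction to the elements of order `p`. -/
theorem good_all (h1 : ∀ x : Perm α, x ∈ alternatingGroup α → x ^ p = 1 → Good T x) :
    ∀ (N : ℕ) (x : Perm α), weight p x ≤ N → x ∈ alternatingGroup α → (∃ k : ℕ, x ^ p ^ k = 1) →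
      Good T x := by
  intro N
  induction N with
  | zero =>
    intro x hw hs _
    refine h1 x hs ?_
    rwa [Nat.le_zero, weight, Finset.card_eq_zero, support_eq_empty_iff] at hw
  | succ N ih =>
    intro x hw hs hx
    by_cases hxp : x ^ p = 1
    · exact h1 x hs hxp
    obtain ⟨Q, u, t, hQ, hu, ht, rfl, hus, hts, htp, hlt⟩ := exists_factors hx hs hxp
    obtain ⟨k, hk⟩ := hQ ⟨u, hu⟩
    exact good_mul S hT hQ hu ht (ih u (by omega) hus ⟨k, congrArg Subtype.val hk⟩) (h1 t hts htp)

omit hp in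
theorem eq_of_good (hall : ∀ x ∈ (S : Subgroup (alternatingGroup α)), Good T (x : Perm α))
    (hT : Closed (S : Subgroup (alternatingGroup α)) T) : T = (S : Subgroup (alternatingGroup α)) := by
  refine le_antisymm hT.1 fun x hx => ?_
  obtain ⟨_, g, hg⟩ := hall x hx
  have e : g⁻¹ * (g * x * g⁻¹) * g⁻¹⁻¹ = x := by group
  rw [← e]
  exact hT.2 _ hg _ (e.symm ▸ hx)

/-- Elements of order `p` in `T`. -/
theorem exists_good_of_ne_bot (hT : Closed (S : Subgroup (alternatingGroup α)) T) (hne : T ≠ ⊥) :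
    ∃ x : Perm α, x ≠ 1 ∧ x ^ p = 1 ∧ Good T x := by
  obtain ⟨⟨t, ht⟩, ht1⟩ := Subgroup.ne_bot_iff_exists_ne_one.1 hne
  have ht1' : t ≠ 1 := fun h => ht1 (Subtype.ext h)
  obtain ⟨k, hk⟩ := S.isPGroup' ⟨t, hT.1 ht⟩
  have hk' : t ^ p ^ k = 1 := congrArg Subtype.val hk
  classical
  have hex : ∃ j, t ^ p ^ j = 1 := ⟨k, hk'⟩
  have hj := Nat.find_spec hex
  rcases e : Nat.find hex with _ | j
  · rw [e, pow_zero, pow_one] at hj
    exact absurd hj ht1'
  refine ⟨(t ^ p ^ j : alternatingGroup α), fun h => Nat.find_min hex (by omega : j < Nat.find hex)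
    (Subtype.ext h), ?_, ⟨(t ^ p ^ j).2, 1, ?_⟩⟩
  · rw [← SubgroupClass.coe_pow, ← pow_mul, ← pow_succ, ← e, hj]
    rfl
  · rw [one_mul, inv_one, mul_one]
    exact pow_mem ht _

section cycles


theorem card_support_of_cycle {c : Perm α} (hc : c.IsCycle) (h : c ^ p = 1) :
    c.support.card = p := by
  rw [← hc.orderOf]
  exact orderOf_eq_prime h hc.ne_one

omit hp in
theorem mem_alternating_of_pow_odd {x : Perm α} (hodd : Odd p) (hx : x ^ p = 1) :
    x ∈ alternatingGroup α := by
  rw [mem_alternatingGroup]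
  have h1 : Perm.sign x ^ p = 1 := by rw [← map_pow, hx, map_one]
  rcases Int.units_eq_one_or (Perm.sign x) with h | h
  · exact h
  · rw [h, hodd.neg_one_pow] at h1
    exact absurd h1 (by decide)

omit hp in
theorem exists_two_fixed {c : Perm α} (h : c.support.card + 2 ≤ Fintype.card α) :
    ∃ a b, a ≠ b ∧ c a = a ∧ c b = b := by
  have h2 : 1 < c.supportᶜ.card := by rw [Finset.card_compl]; omega
  obtain ⟨a, ha, b, hb, hab⟩ := Finset.one_lt_card.1 h2
  exact ⟨a, b, hab, notMem_support.1 (Finset.mem_compl.1 ha),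
    notMem_support.1 (Finset.mem_compl.1 hb)⟩

omit hp in
theorem commute_swap_of_fixed {c : Perm α} {a b : α} (ha : c a = a) (hb : c b = b) :
    Commute c (swap a b) := by
  show c * swap a b = swap a b * c
  rw [mul_swap_eq_swap_mul, ha, hb]

omit hp in
/-- Fix the parity of a conjugating element. -/
theorem exists_even_conj {x x' g : Perm α} (hg : g * x * g⁻¹ = x')
    (h : ∃ o : Perm α, o ∉ alternatingGroup α ∧ Commute o x) :
    ∃ g' ∈ alternatingGroup α, g' * x * g'⁻¹ = x' := by
  by_cases hge : g ∈ alternatingGroup α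
  · exact ⟨g, hge, hg⟩
  obtain ⟨o, ho, hox⟩ := h
  refine ⟨g * o, ?_, ?_⟩
  · rw [mem_alternatingGroup] at hge ho ⊢
    rw [map_mul, (Int.units_eq_one_or _).resolve_left hge, (Int.units_eq_one_or _).resolve_left ho]
    rfl
  · rw [show g * o * x * (g * o)⁻¹ = g * (o * x * o⁻¹) * g⁻¹ by group, hox.eq, mul_inv_cancel_right,
      hg]

include hT in
theorem good_pCycle (hodd : Odd p) (hn : p + 2 ≤ Fintype.card α) (hne : T ≠ ⊥) :
    ∀ c : Perm α, c.IsCycle → c ^ p = 1 → Good T c := by
  obtain ⟨x, hx1, hxp, hx⟩ := exists_good_of_ne_bot S hT hne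
  obtain ⟨a, ha⟩ : ∃ a, x a ≠ a := by
    by_contra h
    push Not at h
    exact hx1 (Perm.ext h)
  set c := x.cycleOf a with hc
  set r := x * c⁻¹ with hr
  have hcyc : c.IsCycle := isCycle_cycleOf x ha
  have hdis : r.Disjoint c := disjoint_mul_inv_of_mem_cycleFactorsFinset
    (cycleOf_mem_cycleFactorsFinset_iff.2 (mem_support.2 ha))
  have hxrc : x = r * c := by rw [hr, inv_mul_cancel_right]
  have hcp : c ^ p = 1 := cycleOf_pow_eq_one hxp a
  obtain ⟨d, hd, hdp, hdgood⟩ : ∃ d : Perm α, d.IsCycle ∧ d ^ p = 1 ∧ Good T d := by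
    by_cases hr1 : r = 1
    · exact ⟨c, hcyc, hcp, by rwa [hxrc, hr1, one_mul] at hx⟩
    have hcoprime : Nat.Coprime 2 (orderOf c) := by
      rw [orderOf_eq_prime hcp hcyc.ne_one]
      exact (Nat.coprime_two_left).2 hodd
    -- the conjugate with one cycle inverted
    have hct : (r * c⁻¹).cycleType = x.cycleType := by
      rw [hxrc, (hdis.inv_right).cycleType_mul, hdis.cycleType_mul, cycleType_inv]
    obtain ⟨g, hg⟩ := isConj_iff.1 (isConj_iff_cycleType_eq.2 hct.symm)
    have hrp : r ^ p = 1 := by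
      have h := hdis.commute.mul_pow p
      rwa [← hxrc, hxp, hcp, mul_one, eq_comm] at h
    have hodd' : ∃ o : Perm α, o ∉ alternatingGroup α ∧ Commute o x := by
      by_contra hcon
      push Not at hcon
      have hle : Subgroup.centralizer {x} ≤ alternatingGroup α := fun o ho => by
        by_contra ho'
        exact hcon o ho' (Subgroup.mem_centralizer_singleton_iff.1 ho)
      have hcount := count_le_one_of_centralizer_le_alternating hle p
      obtain ⟨n, hn'⟩ := cycleType_prime_order (orderOf_eq_prime hxp hx1 ▸ hp.out)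
      rw [orderOf_eq_prime hxp hx1] at hn'
      rw [hn', Multiset.count_replicate_self] at hcount
      have hn0 : n = 0 := by omega
      subst hn0
      have hxc : x.IsCycle := card_cycleType_eq_one.1 (by rw [hn', Multiset.card_replicate])
      refine hr1 (?_ : r = 1)
      rw [hr, hc, hxc.cycleOf_eq ha, mul_inv_cancel]
    obtain ⟨g', hg', hgx⟩ := exists_even_conj hg hodd'
    have hgood' : Good T (r * c⁻¹) := hgx ▸ hx.conj hg'
    have hxinv : Good T x⁻¹ := by
      obtain ⟨h, k, hk⟩ := hx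
      refine ⟨inv_mem h, k, ?_⟩
      have := inv_mem hk
      rwa [_root_.mul_inv_rev, _root_.mul_inv_rev, inv_inv, ← mul_assoc] at this
    have hcm : Commute x⁻¹ (r * c⁻¹) := by
      rw [hxrc]
      exact (((Commute.refl r).mul_right hdis.commute.inv_right).mul_left
        (hdis.commute.symm.mul_right (Commute.refl c).inv_right)).inv_left
    have h := good_mul_pair S hT hcm (by rw [inv_pow, hxp, inv_one])
      (by rw [hdis.commute.inv_right.mul_pow, hrp, inv_pow, hcp, inv_one, one_mul]) hxinv hgood'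
    have e : x⁻¹ * (r * c⁻¹) = (c ^ 2)⁻¹ := by
      rw [hxrc, _root_.mul_inv_rev, mul_assoc, inv_mul_cancel_left, pow_two, _root_.mul_inv_rev]
    rw [e] at h
    refine ⟨(c ^ 2)⁻¹, ?_, by rw [inv_pow, ← pow_mul, mul_comm, pow_mul, hcp, one_pow, inv_one], h⟩
    exact (hcyc.pow_iff.2 hcoprime).inv
  intro e he hep
  obtain ⟨g, hg⟩ := isConj_iff.1 (hd.isConj he (by
    rw [card_support_of_cycle hd hdp, card_support_of_cycle he hep]))
  obtain ⟨a', b', hab, ha', hb'⟩ := exists_two_fixed (c := d) (by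
    rw [card_support_of_cycle hd hdp]; exact hn)
  obtain ⟨g', hg', hge⟩ := exists_even_conj hg ⟨swap a' b', by
    rw [mem_alternatingGroup, sign_swap hab]; decide, (commute_swap_of_fixed ha' hb').symm⟩
  exact hge ▸ hdgood.conj hg'

include hT in
theorem good_order_p_odd (hodd : Odd p) (hn : p + 2 ≤ Fintype.card α) (hne : T ≠ ⊥) :
    ∀ x : Perm α, x ∈ alternatingGroup α → x ^ p = 1 → Good T x := by
  intro x _ hxp
  suffices h : ∀ N : ℕ, ∀ x : Perm α, x.support.card ≤ N → x ^ p = 1 → Good T x from h _ x le_rfl hxp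
  intro N
  induction N with
  | zero =>
    intro x hx _
    rw [Nat.le_zero, Finset.card_eq_zero, support_eq_empty_iff] at hx
    exact hx ▸ good_one
  | succ N ih =>
    intro x hx hxp
    by_cases hx1 : x = 1
    · exact hx1 ▸ good_one
    obtain ⟨a, ha⟩ : ∃ a, x a ≠ a := by
      by_contra h
      push Not at h
      exact hx1 (Perm.ext h)
    set c := x.cycleOf a with hc
    set r := x * c⁻¹ with hr
    have hcyc : c.IsCycle := isCycle_cycleOf x ha
    have hdis : r.Disjoint c := disjoint_mul_inv_of_mem_cycleFactorsFinset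
      (cycleOf_mem_cycleFactorsFinset_iff.2 (mem_support.2 ha))
    have hxrc : x = r * c := by rw [hr, inv_mul_cancel_right]
    have hcp : c ^ p = 1 := cycleOf_pow_eq_one hxp a
    have hrp : r ^ p = 1 := by
      have h := hdis.commute.mul_pow p
      rwa [← hxrc, hxp, hcp, mul_one, eq_comm] at h
    have hcard : r.support.card + c.support.card = x.support.card := by
      rw [hxrc, hdis.card_support_mul]
    have := hcyc.two_le_card_support
    rw [hxrc]
    exact good_mul_pair S hT hdis.commute hrp hcp (ih r (by omega) hrp)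
      (good_pCycle S hT hodd hn hne c hcyc hcp)

/-- A double transposition. -/
def IsDouble (d : Perm α) : Prop :=
  ∃ a a' b b' : α, a ≠ a' ∧ b ≠ b' ∧ a ≠ b ∧ a ≠ b' ∧ a' ≠ b ∧ a' ≠ b' ∧
    d = swap a a' * swap b b'

omit hp in
theorem commute_swaps {a a' b b' : α} (h1 : a ≠ b) (h2 : a ≠ b') (h3 : a' ≠ b) (h4 : a' ≠ b') :
    Commute (swap a a') (swap b b') :=
  commute_swap_of_fixed (swap_apply_of_ne_of_ne h1.symm h3.symm)
    (swap_apply_of_ne_of_ne h2.symm h4.symm)

omit hp in
theorem swap_swap_pow {a a' b b' : α} (h1 : a ≠ b) (h2 : a ≠ b') (h3 : a' ≠ b) (h4 : a' ≠ b') :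
    (swap a a' * swap b b') ^ 2 = 1 := by
  rw [(commute_swaps h1 h2 h3 h4).mul_pow, pow_two, pow_two, swap_mul_self, swap_mul_self, one_mul]

omit hp in
/-- An involution other than one transposition has two of its transpositions split off. -/
theorem exists_pairs {x : Perm α} (hx : ∀ c, x (x c) = c) {a : α} (ha : x a ≠ a)
    (hs : x ∈ alternatingGroup α) :
    ∃ b, x b ≠ b ∧ b ≠ a ∧ b ≠ x a ∧ x b ≠ a ∧ x b ≠ x a := by
  by_contra h
  push Not at h
  have hb : ∀ b, x b ≠ b → b = a ∨ b = x a := by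
    intro b hb
    by_contra hcon
    push Not at hcon
    obtain ⟨h1, h2⟩ := hcon
    have h3 : x b ≠ a := fun e => h2 (by rw [← e, hx])
    exact h1 (x.injective (h b hb h1 h2 h3))
  have he : x = swap a (x a) := by
    ext c
    by_cases h1 : c = a
    · rw [h1, swap_apply_left]
    by_cases h2 : c = x a
    · rw [h2, swap_apply_right, hx]
    rw [swap_apply_of_ne_of_ne h1 h2]
    by_contra h3
    rcases hb c h3 with e | e
    exacts [h1 e, h2 e]
  rw [mem_alternatingGroup, he, sign_swap ha.symm] at hs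
  exact absurd hs (by decide)

omit hp in
theorem apply_apply_of_sq {x : Perm α} (hx : x ^ 2 = 1) (c : α) : x (x c) = c := by
  rw [← Perm.mul_apply, ← pow_two, hx, Perm.one_apply]

include hT in
theorem good_double (hp2 : p = 2) (hne : T ≠ ⊥) : ∀ d : Perm α, IsDouble d → Good T d := by
  subst hp2
  obtain ⟨x, hx1, hxp, hx⟩ := exists_good_of_ne_bot S hT hne
  have hxx := apply_apply_of_sq hxp
  obtain ⟨a, ha⟩ : ∃ a, x a ≠ a := by
    by_contra h
    push Not at h
    exact hx1 (Perm.ext h)
  obtain ⟨b, hb, h1, h2, h3, h4⟩ := exists_pairs hxx ha hx.1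
  -- re-pair two transpositions
  set g := swap (x a) b * swap a (x a)
  have hg : g ∈ alternatingGroup α := by
    rw [mem_alternatingGroup, map_mul, sign_swap h2.symm, sign_swap ha.symm]; rfl
  have hx' : Good T (g * x * g⁻¹) := hx.conj hg
  have key : x * (g * x * g⁻¹) = swap a (x b) * swap (x a) b := by
    ext c
    have hinj : ∀ u v, x u = x v → u = v := fun u v h => x.injective h
    simp only [g, _root_.mul_inv_rev, swap_inv, Perm.mul_apply]
    by_cases c1 : c = a
    · subst c1
      simp [hxx, swap_apply_def, ha, ha.symm, hb, hb.symm, h1, h1.symm, h2, h2.symm, h3, h3.symm, h4, h4.symm]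
    by_cases c2 : c = x a
    · subst c2
      simp [hxx, swap_apply_def, ha, ha.symm, hb, hb.symm, h1, h1.symm, h2, h2.symm, h3, h3.symm, h4, h4.symm]
    by_cases c3 : c = b
    · subst c3
      simp [hxx, swap_apply_def, ha, ha.symm, hb, hb.symm, h1, h1.symm, h2, h2.symm, h3, h3.symm, h4, h4.symm]
    by_cases c4 : c = x b
    · subst c4
      simp [hxx, swap_apply_def, ha, ha.symm, hb, hb.symm, h1, h1.symm, h2, h2.symm, h3, h3.symm, h4, h4.symm]
    have d1 : x c ≠ a := fun e => c2 (by rw [← e, hxx])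
    have d2 : x c ≠ x a := fun e => c1 (hinj _ _ e)
    have d3 : x c ≠ b := fun e => c4 (by rw [← e, hxx])
    simp [hxx, swap_apply_def, c1, c2, c3, c4, d1, d2, d3]
  have hdd : IsDouble (swap a (x b) * swap (x a) b) :=
    ⟨a, x b, x a, b, h3.symm, h2.symm, ha.symm, h1.symm, h4, hb, rfl⟩
  have hsq : (x * (g * x * g⁻¹)) * (x * (g * x * g⁻¹)) = 1 := by
    rw [← pow_two, key]
    exact swap_swap_pow ha.symm h1.symm h4 hb
  have hcm : Commute x (g * x * g⁻¹) := by
    have hx' : (g * x * g⁻¹) * (g * x * g⁻¹) = 1 := by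
      rw [← pow_two, conj_pow, hxp, mul_one, mul_inv_cancel]
    have hxi : x⁻¹ = x := inv_eq_of_mul_eq_one_right (by rw [← pow_two]; exact hxp)
    have h := inv_eq_of_mul_eq_one_right hsq
    rw [_root_.mul_inv_rev, inv_eq_of_mul_eq_one_right hx', hxi] at h
    exact h.symm
  have hgood : Good T (swap a (x b) * swap (x a) b) := by
    rw [← key]
    exact good_mul_pair S hT hcm hxp (by rw [conj_pow, hxp, mul_one, mul_inv_cancel]) hx hx'
  intro e he
  obtain ⟨e1, e1', e2, e2', f1, f2, f3, f4, f5, f6, rfl⟩ := he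
  obtain ⟨d1, d1', d2, d2', g1, g2, g3, g4, g5, g6, hd⟩ := hdd
  rw [hd] at hgood
  have hct : ∀ {u u' v v' : α}, u ≠ u' → v ≠ v' → u ≠ v → u ≠ v' → u' ≠ v → u' ≠ v' →
      (swap u u' * swap v v').cycleType = {2, 2} := by
    intro u u' v v' k1 k2 k3 k4 k5 k6
    rw [Disjoint.cycleType_mul, (isCycle_swap k1).cycleType, (isCycle_swap k2).cycleType,
      card_support_swap k1, card_support_swap k2]
    · rfl
    · intro c
      by_cases c1 : c = u
      · exact Or.inr (by rw [c1, swap_apply_of_ne_of_ne k3 k4])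
      by_cases c2 : c = u'
      · exact Or.inr (by rw [c2, swap_apply_of_ne_of_ne k5 k6])
      exact Or.inl (swap_apply_of_ne_of_ne c1 c2)
  obtain ⟨k, hk⟩ := isConj_iff.1 (isConj_iff_cycleType_eq.2
    ((hct g1 g2 g3 g4 g5 g6).trans (hct f1 f2 f3 f4 f5 f6).symm))
  obtain ⟨k', hk', hke⟩ := exists_even_conj hk ⟨swap d1 d1', by
    rw [mem_alternatingGroup, sign_swap g1]; decide,
    (Commute.refl _).mul_right (commute_swaps g3 g4 g5 g6)⟩
  exact hke ▸ hgood.conj hk'

include hT in
theorem good_order_p_two (hp2 : p = 2) (hne : T ≠ ⊥) :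
    ∀ x : Perm α, x ∈ alternatingGroup α → x ^ p = 1 → Good T x := by
  subst hp2
  intro x hs hxp
  suffices h : ∀ N : ℕ, ∀ x : Perm α, x.support.card ≤ N → x ∈ alternatingGroup α → x ^ 2 = 1 →
      Good T x from h _ x le_rfl hs hxp
  intro N
  induction N with
  | zero =>
    intro x hx _ _
    rw [Nat.le_zero, Finset.card_eq_zero, support_eq_empty_iff] at hx
    exact hx ▸ good_one
  | succ N ih =>
    intro x hx hs hxp
    by_cases hx1 : x = 1
    · exact hx1 ▸ good_one
    obtain ⟨a, ha⟩ : ∃ a, x a ≠ a := by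
      by_contra h
      push Not at h
      exact hx1 (Perm.ext h)
    have hxx := apply_apply_of_sq hxp
    obtain ⟨b, hb, h1, h2, h3, h4⟩ := exists_pairs hxx ha hs
    set d := swap a (x a) * swap b (x b)
    set r := d * x
    have hdouble : IsDouble d := ⟨a, x a, b, x b, ha.symm, hb.symm, h1.symm, h3.symm, h2.symm, h4.symm, rfl⟩
    have hd2 : d ^ 2 = 1 := swap_swap_pow h1.symm h3.symm h2.symm h4.symm
    have hdA : d ∈ alternatingGroup α := by
      rw [mem_alternatingGroup, map_mul, sign_swap ha.symm, sign_swap hb.symm]; rfl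
    have hxd : Commute x d := by
      show x * d = d * x
      rw [← mul_inv_eq_iff_eq_mul, show x * d * x⁻¹ = (x * swap a (x a) * x⁻¹) * (x * swap b (x b) * x⁻¹) by
        simp only [d]; group, ← swap_apply_apply, ← swap_apply_apply, hxx, hxx, swap_comm (x a), swap_comm (x b)]
    have hcomm : Commute d r := (Commute.refl d).mul_right hxd.symm
    have hr2 : r ^ 2 = 1 := by rw [hxd.symm.mul_pow, hd2, hxp, one_mul]
    have hfix : ∀ c, x c = c → r c = c := fun c hc => by
      show d (x c) = c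
      rw [hc, show d c = swap a (x a) (swap b (x b) c) from rfl]
      have e1 : c ≠ b := fun e => hb (e ▸ hc)
      have e2 : c ≠ x b := fun e => hb (by rw [e, hxx] at hc; exact hc.symm)
      have e3 : c ≠ a := fun e => ha (e ▸ hc)
      have e4 : c ≠ x a := fun e => ha (by rw [e, hxx] at hc; exact hc.symm)
      rw [swap_apply_of_ne_of_ne e1 e2, swap_apply_of_ne_of_ne e3 e4]
    have hlt : r.support.card < x.support.card := by
      refine Finset.card_lt_card (Finset.ssubset_iff_of_subset (fun c hc => ?_) |>.2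
        ⟨a, mem_support.2 ha, ?_⟩)
      · rw [mem_support] at hc ⊢
        exact fun h => hc (hfix c h)
      · rw [mem_support, not_not]
        show swap a (x a) (swap b (x b) (x a)) = a
        rw [swap_apply_of_ne_of_ne h2.symm h4.symm, swap_apply_right]
    have e : x = d * r := by rw [← mul_assoc, ← pow_two, hd2, one_mul]
    rw [e]
    exact good_mul_pair S hT hcomm hd2 hr2 (good_double S hT rfl hne d hdouble)
      (ih r (by omega) (mul_mem hdA hs) hr2)

end cycles

include hT in
/-- The classification of the closed subgroups. -/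
theorem eq_bot_or_eq_of_closed (hn : p + 2 ≤ Fintype.card α) :
    T = ⊥ ∨ T = (S : Subgroup (alternatingGroup α)) := by
  by_cases hne : T = ⊥
  · exact Or.inl hne
  refine Or.inr (eq_of_good S (fun x hx => ?_) hT)
  obtain ⟨k, hk⟩ := S.isPGroup' ⟨x, hx⟩
  refine good_all S hT (fun y hy hyp => ?_) _ (x : Perm α) le_rfl x.2 ⟨k, ?_⟩
  · rcases hp.out.eq_two_or_odd' with h2 | hodd
    · exact good_order_p_two S hT h2 hne y hy hyp
    · exact good_order_p_odd S hT hodd hn hne y hy hyp
  · exact congrArg (fun z : (S : Subgroup (alternatingGroup α)) => ((z : alternatingGroup α) : Perm α)) hk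

end CfsgLib.FusionSimple.Alt
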