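/-
A form of the simplicity criterion allowing centric subgroups that are not normal in the Sylow
subgroup, as long as they contain their centralizer.
-/
import Cfsg.Agent.FusionSimple.Generic

set_option autoImplicit false

namespace CfsgLib.FusionSimple

open Cfsg Cfsg.FusionSystem CfsgLib.Fusion

variable {G : Type*} [Group G]

/-- Elements of `N_G(U)` in the `p`-generated part of the normalizer of a self-centralizing
subgroup of `U`. -/
def resElts (p : ℕ) (U : Subgroup G) : Set G :=
  {g | g ∈ Subgroup.normalizer (U : Set G) ∧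
    ∃ R : Subgroup G, R ≤ U ∧ Subgroup.centralizer (R : Set G) ≤ R ∧
      g ∈ Subgroup.closure {y : G | y ∈ Subgroup.normalizer (R : Set G) ∧
        ∃ k : ℕ, orderOf y = p ^ k}}

/-- A subgroup of `S` containing its centralizer is centric. -/
theorem isCentric_of_centralizer_le' {S R : Subgroup G} (hR : R ≤ S)
    (hc : Subgroup.centralizer (R : Set G) ≤ R) : (groupFusionSystem S).IsCentric R := by
  refine ⟨hR, ?_⟩
  rintro Q ⟨φ, ⟨-, -, g, hg⟩, rfl⟩ x hx
  have hxc : g⁻¹ * x * g ∈ Subgroup.centralizer (R : Set G) := by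
    refine Subgroup.mem_centralizer_iff.2 fun r hr => ?_
    have h := (mem_centralizerIn'.1 hx).2 (φ ⟨r, hr⟩) ⟨⟨r, hr⟩, rfl⟩
    rw [hg, mul_inv_eq_iff_eq_mul] at h
    dsimp only at h
    calc r * (g⁻¹ * x * g) = g⁻¹ * ((g * r * g⁻¹) * x) * g := by group
      _ = g⁻¹ * (x * (g * r * g⁻¹)) * g := by rw [h]
      _ = (g⁻¹ * x * g) * r := by group
  exact ⟨⟨_, hc hxc⟩, by rw [hg]; group⟩

/-- The normalizer condition is invariant under isomorphisms. -/
theorem normalizer_le_closure_resElts_map {H : Type*} [Group H] (e : G ≃* H) {p : ℕ} {U : Subgroup G}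
    (hb : Subgroup.normalizer (U : Set G) ≤ Subgroup.closure (resElts p U)) :
    Subgroup.normalizer ((U.map e.toMonoidHom : Subgroup H) : Set H) ≤
      Subgroup.closure (resElts p (U.map e.toMonoidHom)) := by
  intro g hg
  have hg' : e.symm g ∈ Subgroup.normalizer (U : Set G) := by
    rw [Subgroup.mem_normalizer_iff]
    intro u
    have h := Subgroup.mem_normalizer_iff.1 hg (e u)
    have hu : g * e u * g⁻¹ = e.toMonoidHom (e.symm g * u * (e.symm g)⁻¹) := by simp
    rw [hu] at h
    exact ((Subgroup.mem_map_iff_mem e.injective).symm.trans h).trans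
      (Subgroup.mem_map_iff_mem e.injective)
  have h := Subgroup.mem_map_of_mem e.toMonoidHom (hb hg')
  rw [MonoidHom.map_closure, show e.toMonoidHom (e.symm g) = g from e.apply_symm_apply _] at h
  refine Subgroup.closure_mono ?_ h
  rintro _ ⟨y, ⟨hyN, R, hR, hc, hy⟩, rfl⟩
  refine ⟨mem_normalizer_map_equiv e hyN, R.map e.toMonoidHom, Subgroup.map_mono hR,
    fun x hx => ?_, ?_⟩
  · refine ⟨e.symm x, hc (Subgroup.mem_centralizer_iff.2 fun r hr => e.injective ?_),
      e.apply_symm_apply x⟩
    rw [map_mul, map_mul, e.apply_symm_apply]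
    exact Subgroup.mem_centralizer_iff.1 hx (e r) ⟨r, hr, rfl⟩
  · have h2 := Subgroup.mem_map_of_mem e.toMonoidHom hy
    rw [MonoidHom.map_closure] at h2
    refine Subgroup.closure_mono ?_ h2
    rintro _ ⟨z, ⟨hz, k, hk⟩, rfl⟩
    exact ⟨mem_normalizer_map_equiv e hz, k, by rw [← hk]; exact MulEquiv.orderOf_eq e z⟩

variable [Finite G] {p : ℕ} [Fact p.Prime]

theorem isSimple_of_closed_of_resElts (U : Sylow p G) (hne : (U : Subgroup G) ≠ ⊥)
    (ha : ∀ S : Sylow p G, ∀ T : Subgroup G,
      Closed (S : Subgroup G) T → T = ⊥ ∨ T = (S : Subgroup G))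
    (hb : Subgroup.normalizer ((U : Subgroup G) : Set G) ≤
      Subgroup.closure (resElts p (U : Subgroup G))) (S : Sylow p G) :
    (groupFusionSystem (S : Subgroup G)).IsSimple p := by
  obtain ⟨a, rfl⟩ := MulAction.exists_smul_eq G U S
  set e : G ≃* G := MulAut.conj a with he
  have hS : ((a • U : Sylow p G) : Subgroup G) = (U : Subgroup G).map e.toMonoidHom := by
    rw [Sylow.coe_subgroup_smul]
    rfl
  have hbS : Subgroup.normalizer (((a • U : Sylow p G) : Subgroup G) : Set G) ≤
      Subgroup.closure (resElts p ((a • U : Sylow p G) : Subgroup G)) := by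
    rw [hS]; exact normalizer_le_closure_resElts_map e hb
  set S := a • U
  refine isSimple_groupFusionSystem S ?_
    (fun T hT => ha _ T (closed_of_stronglyClosed hT)) fun α hα => ?_
  · rw [hS]
    exact fun h => hne ((Subgroup.map_eq_bot_iff_of_injective _ e.injective).1 h)
  obtain ⟨g, rfl⟩ := exists_normalizer_of_mem_autGroup hα
  have hg := hbS g.2
  have hle : Subgroup.closure (resElts p (S : Subgroup G)) ≤
      ((Subgroup.closure (residualAuts p (S : Subgroup G))).comap
        (S : Subgroup G).normalizerMonoidHom).map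
        (Subgroup.normalizer ((S : Subgroup G) : Set G)).subtype := by
    rw [Subgroup.closure_le]
    rintro y ⟨hy, R, hR, hc, h⟩
    exact ⟨⟨y, hy⟩, Subgroup.subset_closure
      ⟨R, y, isCentric_of_centralizer_le' hR hc, h, fun _ => rfl⟩, rfl⟩
  obtain ⟨g', hg', hgg'⟩ := hle hg
  have : g' = g := Subtype.ext hgg'
  exact this ▸ hg'

end CfsgLib.FusionSimple
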