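/-
The wreath layer `C_p ≀ Q` of permutations of `ZMod p × K` and the order of a Sylow subgroup of a
symmetric group.
-/
import Mathlib

set_option autoImplicit false

namespace CfsgLib.FusionSimple.Alt

open Equiv Equiv.Perm

variable {p : ℕ} [hp : Fact p.Prime] {K : Type*}

/-- Translations inside the blocks. -/
def tr (f : K → ZMod p) : Perm (ZMod p × K) where
  toFun x := (x.1 + f x.2, x.2)
  invFun x := (x.1 - f x.2, x.2)
  left_inv x := by simp
  right_inv x := by simp

/-- The lift of a permutation of the blocks. -/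
def lift (π : Perm K) : Perm (ZMod p × K) := Equiv.prodCongr (Equiv.refl _) π

/-- Multiplications inside the blocks. -/
def dil (a : K → (ZMod p)ˣ) : Perm (ZMod p × K) where
  toFun x := ((a x.2 : ZMod p) * x.1, x.2)
  invFun x := (((a x.2)⁻¹ : (ZMod p)ˣ) * x.1, x.2)
  left_inv x := Prod.ext (Units.inv_mul_cancel_left (a x.2) x.1) rfl
  right_inv x := Prod.ext (Units.mul_inv_cancel_left (a x.2) x.1) rfl

theorem tr_apply (f : K → ZMod p) (x : ZMod p) (j : K) : tr f (x, j) = (x + f j, j) := rfl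

theorem lift_apply (π : Perm K) (x : ZMod p) (j : K) : lift π (x, j) = (x, π j) := rfl

theorem dil_apply (a : K → (ZMod p)ˣ) (x : ZMod p) (j : K) :
    dil a (x, j) = ((a j : ZMod p) * x, j) := rfl

theorem tr_add (f g : K → ZMod p) : tr (f + g) = tr f * tr g := by
  ext ⟨x, j⟩ <;> simp [tr_apply, add_comm, add_left_comm]

theorem tr_zero : tr (0 : K → ZMod p) = 1 := by ext ⟨x, j⟩ <;> simp [tr_apply]

theorem lift_mul (π ρ : Perm K) : (lift (π * ρ) : Perm (ZMod p × K)) = lift π * lift ρ := rfl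

theorem lift_one : (lift (1 : Perm K) : Perm (ZMod p × K)) = 1 := rfl

theorem dil_mul (a b : K → (ZMod p)ˣ) : dil (a * b) = dil a * dil b := by
  ext ⟨x, j⟩ <;> simp [dil_apply, mul_assoc]

theorem dil_one : dil (1 : K → (ZMod p)ˣ) = 1 := by ext ⟨x, j⟩ <;> simp [dil_apply]

/-- The lift as a homomorphism. -/
def liftHom : Perm K →* Perm (ZMod p × K) where
  toFun := lift
  map_one' := lift_one
  map_mul' := lift_mul

/-- Dilations as a homomorphism. -/
def dilHom : (K → (ZMod p)ˣ) →* Perm (ZMod p × K) where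
  toFun := dil
  map_one' := dil_one
  map_mul' := dil_mul

/-- Translations as a homomorphism. -/
def trHom : Multiplicative (K → ZMod p) →* Perm (ZMod p × K) where
  toFun f := tr f.toAdd
  map_one' := tr_zero
  map_mul' f g := tr_add f.toAdd g.toAdd

theorem lift_mul_tr (π : Perm K) (f : K → ZMod p) :
    lift π * tr f = tr (f ∘ ⇑π⁻¹) * lift π := by
  ext ⟨x, j⟩ <;> simp [tr_apply, lift_apply]

theorem dil_mul_tr (a : K → (ZMod p)ˣ) (f : K → ZMod p) :
    dil a * tr f = tr (fun j => (a j : ZMod p) * f j) * dil a := by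
  ext ⟨x, j⟩ <;> simp [tr_apply, dil_apply, mul_add]

theorem lift_mul_dil (π : Perm K) (a : K → (ZMod p)ˣ) :
    (lift π * dil a : Perm (ZMod p × K)) = dil (a ∘ ⇑π⁻¹) * lift π := by
  ext ⟨x, j⟩ <;> simp [dil_apply, lift_apply]

theorem lift_inv (π : Perm K) : (lift π : Perm (ZMod p × K))⁻¹ = lift π⁻¹ :=
  (map_inv (liftHom (p := p)) π).symm

theorem tr_inv (f : K → ZMod p) : (tr f)⁻¹ = tr (-f) :=
  inv_eq_of_mul_eq_one_right (by rw [← tr_add, add_neg_cancel, tr_zero])

theorem dil_inv (a : K → (ZMod p)ˣ) : (dil a)⁻¹ = dil a⁻¹ :=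
  inv_eq_of_mul_eq_one_right (by rw [← dil_mul, mul_inv_cancel, dil_one])

theorem tr_pow (f : K → ZMod p) : tr f ^ p = 1 := by
  have h : ∀ n : ℕ, tr f ^ n = tr (n • f) := fun n => by
    induction n with
    | zero => rw [pow_zero, zero_smul, tr_zero]
    | succ n ih => rw [pow_succ, ih, succ_nsmul, tr_add]
  rw [h, show p • f = 0 from funext fun j => by simp, tr_zero]

theorem tr_lift_inj {f g : K → ZMod p} {π ρ : Perm K} (h : tr f * lift π = tr g * lift ρ) :
    f = g ∧ π = ρ := by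
  have hj : ∀ j, π j = ρ j ∧ f (π j) = g (ρ j) := fun j => by
    have h' := congrArg (fun σ : Perm (ZMod p × K) => σ (0, j)) h
    simp only [Perm.mul_apply, lift_apply, tr_apply, zero_add, Prod.mk.injEq] at h'
    exact ⟨h'.2, h'.1⟩
  have hπ : π = ρ := Perm.ext fun j => (hj j).1
  subst hπ
  refine ⟨funext fun j => ?_, rfl⟩
  simpa using (hj (π⁻¹ j)).2

/-- The wreath layer over `Q`. -/
def wreath (Q : Subgroup (Perm K)) : Subgroup (Perm (ZMod p × K)) where
  carrier := {σ | ∃ f : K → ZMod p, ∃ π ∈ Q, σ = tr f * lift π}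
  one_mem' := ⟨0, 1, one_mem Q, by rw [tr_zero, lift_one, one_mul]⟩
  mul_mem' := by
    rintro _ _ ⟨f, π, hπ, rfl⟩ ⟨g, ρ, hρ, rfl⟩
    exact ⟨f + g ∘ ⇑π⁻¹, π * ρ, mul_mem hπ hρ, by
      rw [mul_assoc, ← mul_assoc (lift π), lift_mul_tr, tr_add, lift_mul]; simp only [mul_assoc]⟩
  inv_mem' := by
    rintro _ ⟨f, π, hπ, rfl⟩
    exact ⟨(-f) ∘ ⇑π, π⁻¹, inv_mem hπ, by
      rw [_root_.mul_inv_rev, tr_inv, lift_inv, lift_mul_tr, inv_inv]⟩

theorem tr_mem_wreath (Q : Subgroup (Perm K)) (f : K → ZMod p) : tr f ∈ wreath Q :=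
  ⟨f, 1, one_mem Q, by rw [lift_one, mul_one]⟩

theorem lift_mem_wreath {Q : Subgroup (Perm K)} {π : Perm K} (hπ : π ∈ Q) :
    lift π ∈ wreath (p := p) Q := ⟨0, π, hπ, by rw [tr_zero, one_mul]⟩

theorem card_wreath [Fintype K] (Q : Subgroup (Perm K)) :
    Nat.card (wreath (p := p) Q) = p ^ Fintype.card K * Nat.card Q := by
  let e : (K → ZMod p) × Q → wreath (p := p) Q := fun x => ⟨tr x.1 * lift x.2.1, x.1, x.2.1, x.2.2, rfl⟩
  have he : Function.Bijective e := by
    refine ⟨fun x y h => ?_, fun ⟨σ, f, π, hπ, hσ⟩ => ⟨(f, ⟨π, hπ⟩), Subtype.ext hσ.symm⟩⟩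
    obtain ⟨h1, h2⟩ := tr_lift_inj (congrArg Subtype.val h)
    exact Prod.ext h1 (Subtype.ext h2)
  rw [← Nat.card_eq_of_bijective e he, Nat.card_prod, Nat.card_fun, Nat.card_zmod,
    Nat.card_eq_fintype_card (α := K)]

/-- Dilations and block permutations normalizing `Q` normalize the wreath layer. -/
theorem conj_wreath {Q : Subgroup (Perm K)} {ρ : Perm K} {a : K → (ZMod p)ˣ}
    (hρ : ∀ π ∈ Q, ρ * π * ρ⁻¹ ∈ Q) (ha : ∀ π ∈ Q, ∀ j, a (π j) = a j)
    {σ : Perm (ZMod p × K)} (hσ : σ ∈ wreath Q) :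
    (lift ρ * dil a) * σ * (lift ρ * dil a)⁻¹ ∈ wreath Q := by
  obtain ⟨f, π, hπ, rfl⟩ := hσ
  refine ⟨(fun j => (a j : ZMod p) * f j) ∘ ⇑ρ⁻¹, ρ * π * ρ⁻¹, hρ π hπ, ?_⟩
  have hc : dil a * lift π = lift π * dil a := by
    ext ⟨x, j⟩ <;> simp [dil_apply, lift_apply, ha π hπ j]
  rw [lift_mul, lift_mul, ← lift_inv,
    show lift ρ * dil a * (tr f * lift π) * (lift ρ * dil a)⁻¹ =
      lift ρ * ((dil a * tr f) * lift π * (dil a)⁻¹) * (lift ρ)⁻¹ by group,
    dil_mul_tr, mul_assoc _ (dil a) (lift π), hc]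
  rw [show ∀ T : Perm (ZMod p × K), lift ρ * (T * (lift π * dil a) * (dil a)⁻¹) * (lift ρ)⁻¹ =
    (lift ρ * T) * lift π * (lift ρ)⁻¹ from fun T => by group, lift_mul_tr]
  simp only [mul_assoc]

/-- The `p`-adic valuation of a factorial of `p * k + r`. -/
theorem val_factorial (k r : ℕ) (hr : r < p) :
    padicValNat p (p * k + r).factorial = padicValNat p k.factorial + k := by
  rw [padicValNat_factorial_mul_add k hr, padicValNat_factorial_mul]

theorem val_factorial_pow_add : ∀ (f b : ℕ), p ^ f + b < p ^ (f + 1) →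
    padicValNat p (p ^ f + b).factorial =
      padicValNat p (p ^ f).factorial + padicValNat p b.factorial := by
  intro f
  induction f with
  | zero =>
    intro b hb
    simp only [pow_zero, zero_add, pow_one] at hb
    have h0 : ∀ r, r < p → padicValNat p r.factorial = 0 := fun r hr => by
      have := val_factorial (p := p) 0 r hr
      simpa using this
    rw [pow_zero, h0 _ hb, h0 _ (by omega), h0 _ (by omega)]
  | succ f ih =>
    intro b hb
    have hr : b % p < p := Nat.mod_lt _ hp.out.pos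
    have hq := Nat.div_add_mod b p
    have hlt : p ^ f + b / p < p ^ (f + 1) := by
      refine Nat.lt_of_mul_lt_mul_left (a := p) ?_
      rw [mul_add, ← pow_succ', ← pow_succ']
      omega
    have e1 : p ^ (f + 1) + b = p * (p ^ f + b / p) + b % p := by
      rw [mul_add, ← pow_succ']; omega
    have e2 : padicValNat p (p ^ (f + 1)).factorial = padicValNat p (p ^ f).factorial + p ^ f := by
      rw [pow_succ', padicValNat_factorial_mul]
    have e3 : padicValNat p b.factorial = padicValNat p (b / p).factorial + b / p := by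
      conv_lhs => rw [← hq]
      rw [val_factorial _ _ hr]
    rw [e1, val_factorial _ _ hr, ih _ hlt, e2, e3]
    ring

/-- A Sylow-sized subgroup of a symmetric group. -/
def IsSylowSize (p : ℕ) {K : Type*} (Q : Subgroup (Perm K)) : Prop :=
  Nat.card Q = p ^ padicValNat p (Nat.card K).factorial

theorem exists_isSylowSize (K : Type*) [Fintype K] [DecidableEq K] :
    ∃ Q : Subgroup (Perm K), IsSylowSize p Q := by
  let P : Sylow p (Perm K) := default
  refine ⟨(P : Subgroup (Perm K)), ?_⟩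
  rw [IsSylowSize, P.card_eq_multiplicity, Nat.card_perm, Nat.factorization_def _ hp.out]

theorem isSylowSize_wreath [Fintype K] {Q : Subgroup (Perm K)} (hQ : IsSylowSize p Q) :
    IsSylowSize p (wreath (p := p) Q) := by
  rw [IsSylowSize, card_wreath, hQ, Nat.card_prod, Nat.card_zmod, padicValNat_factorial_mul, pow_add,
    Nat.card_eq_fintype_card (α := K), mul_comm]

theorem isPGroup_of_size {Q : Subgroup (Perm K)} (hQ : IsSylowSize p Q) : IsPGroup p Q :=
  IsPGroup.of_card hQ

end CfsgLib.FusionSimple.Alt
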