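/-
The normalizer of the group generated by `k` disjoint `p`-cycles in the alternating group and the
subgroup generated by its `p`-elements.
-/
import Cfsg.Agent.FusionSimple.Alt.Wreath

set_option autoImplicit false

namespace CfsgLib.FusionSimple.Alt

open Equiv Equiv.Perm

variable {p : ℕ} [hp : Fact p.Prime] {K : Type*} [Fintype K] [DecidableEq K]
  {E : Type*} [Fintype E] [DecidableEq E] [Subsingleton E]

/-- The embedding of the permutations of the blocks' union. -/
def emb : Perm (ZMod p × K) →* Perm ((ZMod p × K) ⊕ E) :=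
  (Perm.sumCongrHom (ZMod p × K) E).comp (MonoidHom.inl _ _)

omit [Fintype K] [DecidableEq K] [Fintype E] [DecidableEq E] [Subsingleton E] in
theorem emb_inl (σ : Perm (ZMod p × K)) (x : ZMod p × K) :
    (emb σ : Perm ((ZMod p × K) ⊕ E)) (Sum.inl x) = Sum.inl (σ x) := rfl

omit [Fintype K] [DecidableEq K] [Fintype E] [DecidableEq E] [Subsingleton E] in
theorem emb_inr (σ : Perm (ZMod p × K)) (e : E) :
    (emb σ : Perm ((ZMod p × K) ⊕ E)) (Sum.inr e) = Sum.inr e := rfl

omit [Subsingleton E] in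
theorem sign_emb (σ : Perm (ZMod p × K)) :
    Perm.sign (emb σ : Perm ((ZMod p × K) ⊕ E)) = Perm.sign σ := by
  show Perm.sign (Perm.sumCongr σ 1) = _
  rw [Perm.sign_sumCongr, map_one, mul_one]

/-- The group generated by the block cycles. -/
def baseGrp : Subgroup (Perm ((ZMod p × K) ⊕ E)) := (emb.comp (trHom (p := p) (K := K))).range

omit [Fintype K] [DecidableEq K] [Fintype E] [DecidableEq E] [Subsingleton E] in
theorem tr_mem_baseGrp (f : K → ZMod p) :
    (emb (tr f) : Perm ((ZMod p × K) ⊕ E)) ∈ baseGrp := ⟨Multiplicative.ofAdd f, rfl⟩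

/-- A permutation preserving each block's structure up to multipliers. -/
def mono (b : K → ZMod p) (π : Perm K) (a : K → (ZMod p)ˣ) : Perm (ZMod p × K) :=
  tr b * lift π * dil a

omit [Fintype K] [DecidableEq K] in
theorem mono_apply (b : K → ZMod p) (π : Perm K) (a : K → (ZMod p)ˣ) (x : ZMod p) (j : K) :
    mono b π a (x, j) = ((a j : ZMod p) * x + b (π j), π j) := rfl

omit [Fintype K] [DecidableEq K] in
theorem mono_conj_tr (b : K → ZMod p) (π : Perm K) (a : K → (ZMod p)ˣ) (f : K → ZMod p) :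
    mono b π a * tr f * (mono b π a)⁻¹ = tr ((fun j => (a j : ZMod p) * f j) ∘ ⇑π⁻¹) := by
  rw [mul_inv_eq_iff_eq_mul]
  refine Equiv.ext fun ⟨x, j⟩ => ?_
  simp only [Perm.mul_apply, mono_apply, tr_apply, Function.comp_apply]
  rw [Perm.coe_inv, Equiv.symm_apply_apply]
  exact Prod.ext (by ring) rfl

omit [Fintype E] [DecidableEq E] [Subsingleton E] [Fintype K] [DecidableEq K] in
theorem mono_mem_normalizer (b : K → ZMod p) (π : Perm K) (a : K → (ZMod p)ˣ) :
    (emb (mono b π a) : Perm ((ZMod p × K) ⊕ E)) ∈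
      Subgroup.normalizer ((baseGrp : Subgroup (Perm ((ZMod p × K) ⊕ E))) : Set _) := by
  rw [Subgroup.mem_normalizer_iff]
  intro g
  constructor
  · rintro ⟨f, rfl⟩
    refine ⟨Multiplicative.ofAdd ((fun j => (a j : ZMod p) * f.toAdd j) ∘ ⇑π⁻¹), ?_⟩
    show emb (tr _) = emb (mono b π a) * emb (tr f.toAdd) * (emb (mono b π a))⁻¹
    rw [← map_inv, ← map_mul, ← map_mul, mono_conj_tr]
    rfl
  · rintro ⟨f, hf⟩
    refine ⟨Multiplicative.ofAdd (fun j => (((a j)⁻¹ : (ZMod p)ˣ) : ZMod p) * f.toAdd (π j)), ?_⟩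
    have h2 : mono b π a * tr (fun j => (((a j)⁻¹ : (ZMod p)ˣ) : ZMod p) * f.toAdd (π j)) * (mono b π a)⁻¹ =
        tr f.toAdd := by
      rw [mono_conj_tr]
      congr 1
      funext j
      show (a (π⁻¹ j) : ZMod p) * ((((a (π⁻¹ j))⁻¹ : (ZMod p)ˣ) : ZMod p) * f.toAdd (π (π⁻¹ j))) = _
      rw [Units.mul_inv_cancel_left, Perm.coe_inv, Equiv.apply_symm_apply]
    have h3 : emb (tr f.toAdd) = emb (mono b π a) * g * (emb (mono b π a))⁻¹ := hf
    rw [← h2, map_mul, map_mul, map_inv] at h3
    exact mul_left_cancel (mul_right_cancel h3)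

omit [Subsingleton E] in
theorem support_emb_tr (f : K → ZMod p) :
    (emb (tr f) : Perm ((ZMod p × K) ⊕ E)).support =
      Finset.univ.filter (fun z => ∃ x j, f j ≠ 0 ∧ z = Sum.inl (x, j)) := by
  ext z
  rcases z with ⟨x, j⟩ | e
  · simp [Perm.mem_support, emb_inl, tr_apply]
  · simp [Perm.mem_support, emb_inr]

omit [Subsingleton E] in
theorem card_support_single (j : K) {c : ZMod p} (hc : c ≠ 0) :
    (emb (tr (Pi.single j c)) : Perm ((ZMod p × K) ⊕ E)).support.card = p := by
  have h : (emb (tr (Pi.single j c)) : Perm ((ZMod p × K) ⊕ E)).support =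
      Finset.univ.image (fun x : ZMod p => (Sum.inl (x, j) : (ZMod p × K) ⊕ E)) := by
    ext z
    rcases z with ⟨x, i⟩ | e
    · by_cases h : i = j
      · simp [Perm.mem_support, emb_inl, tr_apply, h, hc]
      · simp [Perm.mem_support, emb_inl, tr_apply, h, Ne.symm h]
    · simp [Perm.mem_support, emb_inr]
  rw [h, Finset.card_image_of_injective, Finset.card_univ, ZMod.card]
  intro x y hxy
  simpa using hxy

omit [Subsingleton E] in
/-- An element of the base group moving only `p` points sits in one block. -/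
theorem exists_block {f : K → ZMod p}
    (h : (emb (tr f) : Perm ((ZMod p × K) ⊕ E)).support.card = p) :
    ∃ j, f j ≠ 0 ∧ ∀ i, f i ≠ 0 → i = j := by
  rw [support_emb_tr] at h
  have hne : ∃ j, f j ≠ 0 := by
    by_contra hcon
    push Not at hcon
    rw [Finset.filter_eq_empty_iff.2 (fun z _ hz => by obtain ⟨x, j, hj, -⟩ := hz; exact hj (hcon j)),
      Finset.card_empty] at h
    exact hp.out.ne_zero h.symm
  obtain ⟨j, hj⟩ := hne
  refine ⟨j, hj, fun i hi => ?_⟩
  by_contra hij
  have hle : (Finset.univ.image fun x : ZMod p × Bool =>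
      (Sum.inl (x.1, if x.2 then i else j) : (ZMod p × K) ⊕ E)).card ≤ p := by
    refine le_of_le_of_eq (Finset.card_le_card fun z hz => ?_) h
    obtain ⟨⟨x, b⟩, -, rfl⟩ := Finset.mem_image.1 hz
    refine Finset.mem_filter.2 ⟨Finset.mem_univ _, x, _, ?_, rfl⟩
    cases b <;> simpa
  rw [Finset.card_image_of_injective, Finset.card_univ, Fintype.card_prod, ZMod.card,
    Fintype.card_bool] at hle
  · have := hp.out.pos
    omega
  · rintro ⟨x, b⟩ ⟨y, c⟩ hxy
    cases b <;> cases c <;> simp_all [Ne.symm hij]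

/-- The shape of an element of the normalizer. -/
theorem exists_mono {g : Perm ((ZMod p × K) ⊕ E)}
    (hg : ∀ j : K, ∃ f : K → ZMod p, g * emb (tr (Pi.single j 1)) * g⁻¹ = emb (tr f)) :
    ∃ b π a, g = emb (mono b π a) := by
  have h1 : ∀ j : K, ∃ (i : K) (c : (ZMod p)ˣ) (b : ZMod p), ∀ x : ZMod p,
      g (Sum.inl (x, j)) = Sum.inl ((c : ZMod p) * x + b, i) := by
    intro j
    obtain ⟨f, hf⟩ := hg j
    have hcard : (emb (tr f) : Perm ((ZMod p × K) ⊕ E)).support.card = p := by
      rw [← hf, Perm.card_support_conj, card_support_single j one_ne_zero]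
    obtain ⟨i, hi, huniq⟩ := exists_block hcard
    have hstep : ∀ x : ZMod p, g (Sum.inl (x + 1, j)) = emb (tr f) (g (Sum.inl (x, j))) := fun x => by
      have h := congrArg (fun σ : Perm ((ZMod p × K) ⊕ E) => σ (g (Sum.inl (x, j)))) hf
      simp only [Perm.mul_apply, Perm.coe_inv, Equiv.symm_apply_apply, emb_inl, tr_apply, Pi.single_eq_same] at h
      exact h
    obtain ⟨z, hz⟩ : ∃ z, g (Sum.inl (0, j)) = z := ⟨_, rfl⟩
    rcases z with ⟨b, i'⟩ | e
    swap
    · have h := hstep 0
      rw [hz, emb_inr, ← hz, g.injective.eq_iff] at h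
      simp at h
    have hi' : i' = i := huniq i' fun h0 => by
      have h := hstep 0
      rw [hz, emb_inl, tr_apply, h0, add_zero, ← hz, g.injective.eq_iff] at h
      simp at h
    subst hi'
    refine ⟨i', Units.mk0 (f i') hi, b, fun x => ?_⟩
    have hn : ∀ n : ℕ, g (Sum.inl ((n : ZMod p), j)) = Sum.inl (f i' * n + b, i') := by
      intro n
      induction n with
      | zero => rw [Nat.cast_zero, mul_zero, zero_add, hz]
      | succ n ih =>
        rw [Nat.cast_succ, hstep, ih, emb_inl, tr_apply]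
        congr 2
        ring
    rw [Units.val_mk0, ← ZMod.natCast_rightInverse x]
    exact hn _
  choose π a b hab using h1
  have hπ : Function.Injective π := by
    intro j j' h
    have e : g (Sum.inl (((a j)⁻¹ : (ZMod p)ˣ) * (b j' - b j), j)) = g (Sum.inl (0, j')) := by
      rw [hab, hab, ← mul_assoc, Units.mul_inv, one_mul, sub_add_cancel, mul_zero, zero_add, h]
    exact (Prod.ext_iff.1 (Sum.inl_injective (g.injective e))).2
  let πe : Perm K := Equiv.ofBijective π (Finite.injective_iff_bijective.1 hπ)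
  refine ⟨fun i => b (πe.symm i), πe, a, Equiv.ext fun z => ?_⟩
  have hinl : ∀ x j, g (Sum.inl (x, j)) = emb (mono (fun i => b (πe.symm i)) πe a) (Sum.inl (x, j)) :=
    fun x j => by
      rw [hab, emb_inl, mono_apply, πe.symm_apply_apply]
      rfl
  rcases z with ⟨x, j⟩ | e
  · exact hinl x j
  · rw [emb_inr]
    rcases hge : g (Sum.inr e) with y | e'
    · have h2 : g (Sum.inl ((mono (fun i => b (πe.symm i)) πe a).symm y)) = Sum.inl y := by
        rw [hinl _ _, Prod.mk.eta, emb_inl, Equiv.apply_symm_apply]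
      exact absurd (g.injective (hge.trans h2.symm)) (by simp)
    · rw [Subsingleton.elim e' e]

theorem sign_lift (π : Perm K) : Perm.sign (lift π : Perm (ZMod p × K)) = Perm.sign π ^ p := by
  have h : (lift π : Perm (ZMod p × K)) = prodCongrRight fun _ : ZMod p => π := rfl
  rw [h, Perm.sign_prodCongrRight, Finset.prod_const, Finset.card_univ, ZMod.card]

theorem sign_dil (a : K → (ZMod p)ˣ) (h : ∏ j, a j = 1) :
    Perm.sign (dil a : Perm (ZMod p × K)) = 1 := by
  let μ : (ZMod p)ˣ →* Perm (ZMod p) :=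
    { toFun := fun u => Units.mulLeft u
      map_one' := Equiv.ext fun x => one_mul x
      map_mul' := fun u v => Equiv.ext fun x => mul_assoc _ _ x }
  have e : (dil a : Perm (ZMod p × K)) = prodCongrLeft fun j => μ (a j) := rfl
  rw [e, Perm.sign_prodCongrLeft]
  refine ((map_prod (Perm.sign.comp μ) a Finset.univ).symm.trans ?_)
  rw [h, map_one]

section generation

variable (p K E) in
/-- The even elements of `p`-power order normalizing the base group. -/
def pNorm : Set (Perm ((ZMod p × K) ⊕ E)) :=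
  {y | y ∈ alternatingGroup ((ZMod p × K) ⊕ E) ∧
    y ∈ Subgroup.normalizer ((baseGrp : Subgroup (Perm ((ZMod p × K) ⊕ E))) : Set _) ∧
    ∃ k : ℕ, y ^ p ^ k = 1}

omit [Subsingleton E] in
theorem mem_pNorm (hodd : Odd p) {b : K → ZMod p} {π : Perm K} {a : K → (ZMod p)ˣ} {k : ℕ}
    (h : mono b π a ^ p ^ k = 1) :
    (emb (mono b π a) : Perm ((ZMod p × K) ⊕ E)) ∈ pNorm p K E := by
  have hk : (emb (mono b π a) : Perm ((ZMod p × K) ⊕ E)) ^ p ^ k = 1 := by rw [← map_pow, h, map_one]
  refine ⟨?_, mono_mem_normalizer b π a, k, hk⟩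
  rw [mem_alternatingGroup]
  have h1 : Perm.sign (emb (mono b π a) : Perm ((ZMod p × K) ⊕ E)) ^ p ^ k = 1 := by
    rw [← map_pow, hk, map_one]
  rcases Int.units_eq_one_or (Perm.sign (emb (mono b π a) : Perm ((ZMod p × K) ⊕ E))) with e | e
  · exact e
  · rw [e, hodd.pow.neg_one_pow] at h1
    exact absurd h1 (by decide)

omit [Fintype K] [DecidableEq K] in
theorem mono_tr_only (b : K → ZMod p) : mono b 1 1 = tr b := by
  rw [mono, lift_one, dil_one, mul_one, mul_one]

omit [Fintype K] [DecidableEq K] in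
theorem mono_lift_only (π : Perm K) : mono (p := p) 0 π 1 = lift π := by
  rw [mono, tr_zero, dil_one, one_mul, mul_one]

variable (hodd : Odd p) (hk : p ≤ Fintype.card K)

local notation "H" => Subgroup.closure (pNorm p K E)

include hodd in
omit [Subsingleton E] in
theorem tr_mem (b : K → ZMod p) : (emb (tr b) : Perm ((ZMod p × K) ⊕ E)) ∈ H := by
  rw [← mono_tr_only]
  exact Subgroup.subset_closure (mem_pNorm hodd (k := 1) (by rw [mono_tr_only, pow_one, tr_pow]))

include hodd in
omit [Subsingleton E] in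
theorem lift_mem_of_pow {σ : Perm K} (h : σ ^ p = 1) :
    (emb (lift σ) : Perm ((ZMod p × K) ⊕ E)) ∈ H := by
  rw [← mono_lift_only]
  refine Subgroup.subset_closure (mem_pNorm hodd (k := 1) ?_)
  rw [mono_lift_only, pow_one, show lift σ ^ p = (liftHom (p := p) σ) ^ p from rfl, ← map_pow, h,
    map_one]

include hk in
omit hp [DecidableEq K] in
theorem exists_pCycle [DecidableEq K] {l l' : K} (h : l ≠ l') (hp2 : 2 ≤ p) :
    ∃ σ : Perm K, σ ^ p = 1 ∧ σ l = l' := by
  obtain ⟨s, hs, hcard⟩ := Finset.exists_superset_card_eq (s := ({l, l'} : Finset K)) (n := p)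
    (by rw [Finset.card_pair h]; exact hp2) hk
  set rest := ((s.erase l).erase l').toList
  have hl : l ∈ s := hs (Finset.mem_insert_self _ _)
  have hl' : l' ∈ s.erase l := Finset.mem_erase.2 ⟨h.symm, hs (by simp)⟩
  have hnd : (l :: l' :: rest).Nodup := by
    simp [rest, h, Finset.nodup_toList]
  refine ⟨(l :: l' :: rest).formPerm, ?_, ?_⟩
  · have hlen : (l :: l' :: rest).length = p := by
      rw [List.length_cons, List.length_cons, Finset.length_toList, Finset.card_erase_of_mem hl',
        Finset.card_erase_of_mem hl, hcard]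
      omega
    exact hlen ▸ List.formPerm_pow_length_eq_one_of_nodup _ hnd
  · exact List.formPerm_apply_head _ _ _ hnd

include hodd hk in
omit [Subsingleton E] in
theorem dil_pair_mem {l l' : K} (h : l ≠ l') (u : (ZMod p)ˣ) :
    (emb (dil (Pi.mulSingle l u / Pi.mulSingle l' u)) : Perm ((ZMod p × K) ⊕ E)) ∈ H := by
  obtain ⟨σ, hσ, hσl⟩ := exists_pCycle hk h hp.out.two_le
  set a := (Pi.mulSingle l u : K → (ZMod p)ˣ)
  have hconj : dil a * lift σ * (dil a)⁻¹ = mono 0 σ ((a ∘ ⇑σ) * a⁻¹) := by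
    rw [mono, tr_zero, one_mul, dil_inv, dil_mul, ← mul_assoc, lift_mul_dil]
    congr 2
    congr 1
    funext j
    simp
  have h1 : (emb (dil a * lift σ * (dil a)⁻¹) : Perm ((ZMod p × K) ⊕ E)) ∈ H := by
    rw [hconj]
    refine Subgroup.subset_closure (mem_pNorm hodd (k := 1) ?_)
    rw [← hconj, pow_one, conj_pow, show lift σ ^ p = (liftHom (p := p) σ) ^ p from rfl, ← map_pow,
      hσ, map_one, mul_one, mul_inv_cancel]
  have h2 := mul_mem h1 (inv_mem (lift_mem_of_pow (E := E) hodd hσ))
  rw [← map_inv, ← map_mul, mul_assoc (dil a), dil_inv, lift_mul_dil, mul_assoc, mul_assoc,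
    mul_inv_cancel, mul_one, ← dil_mul] at h2
  convert h2 using 3
  rw [← hσl]
  funext j
  by_cases hj : j = σ l
  · subst hj
    simp [a, div_eq_mul_inv]
  · have : σ⁻¹ j ≠ l := fun e => hj (by rw [← e, Perm.coe_inv, Equiv.apply_symm_apply])
    simp [a, div_eq_mul_inv, Pi.mulSingle_eq_of_ne hj]
    exact Pi.mulSingle_eq_of_ne (by simpa using this) _

include hodd hk in
omit [Subsingleton E] in
theorem dil_mem {a : K → (ZMod p)ˣ} (ha : ∏ j, a j = 1) :
    (emb (dil a) : Perm ((ZMod p × K) ⊕ E)) ∈ H := by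
  obtain ⟨l₀⟩ : Nonempty K := Fintype.card_pos_iff.1 (lt_of_lt_of_le hp.out.pos hk)
  have he : a = ∏ l, (Pi.mulSingle l (a l) / Pi.mulSingle l₀ (a l) : K → (ZMod p)ˣ) := by
    rw [Finset.prod_div_distrib, Finset.univ_prod_mulSingle]
    have h1 : ∏ l, (Pi.mulSingle l₀ (a l) : K → (ZMod p)ˣ) = 1 := by
      rw [show (∏ l, (Pi.mulSingle l₀ (a l) : K → (ZMod p)ˣ)) = Pi.mulSingle l₀ (∏ l, a l) from
        (map_prod (MonoidHom.mulSingle (fun _ : K => (ZMod p)ˣ) l₀) a Finset.univ).symm, ha,
        Pi.mulSingle_one]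
    rw [h1, div_one]
  rw [he, show emb (dil (∏ l, (Pi.mulSingle l (a l) / Pi.mulSingle l₀ (a l) : K → (ZMod p)ˣ))) =
    (emb.comp (dilHom (p := p) (K := K))) _ from rfl]
  have key : (∏ l, (Pi.mulSingle l (a l) / Pi.mulSingle l₀ (a l) : K → (ZMod p)ˣ)) ∈
      (Subgroup.closure (pNorm p K E)).comap (emb.comp dilHom) := by
    refine prod_mem fun l _ => ?_
    by_cases hl : l = l₀
    · rw [hl, div_self']
      exact one_mem _
    · exact dil_pair_mem hodd hk hl (a l)
  exact key

include hodd hk in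
omit [Subsingleton E] in
theorem lift_mem {π : Perm K} (hπ : π ∈ alternatingGroup K) :
    (emb (lift π) : Perm ((ZMod p × K) ⊕ E)) ∈ H := by
  have hp3 : 3 ≤ p := by
    have := hp.out.two_le
    rcases hodd with ⟨t, ht⟩
    omega
  set N := Subgroup.closure {σ : Perm K | σ ^ p = 1}
  have hN : N ≤ (Subgroup.closure (pNorm p K E)).comap (emb.comp (liftHom (p := p))) := by
    rw [Subgroup.closure_le]
    exact fun σ hσ => lift_mem_of_pow hodd hσ
  suffices h : alternatingGroup K ≤ N from hN (h hπ)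
  by_cases h3 : p = 3
  · rw [← closure_three_cycles_eq_alternating, Subgroup.closure_le]
    intro σ hσ
    refine Subgroup.subset_closure ?_
    show σ ^ p = 1
    have h := hσ.orderOf
    rw [h3, ← h]
    exact pow_orderOf_eq_one σ
  have h5 : 5 ≤ Nat.card K := by
    rw [Nat.card_eq_fintype_card]
    have : p ≠ 4 := fun e => absurd (e ▸ hp.out) (by decide)
    omega
  have hsimple := alternatingGroup.isSimpleGroup h5
  have hnorm : (N.subgroupOf (alternatingGroup K)).Normal := by
    refine ⟨fun n hn g => ?_⟩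
    rw [Subgroup.mem_subgroupOf] at hn ⊢
    have hmap : N ≤ N.comap (MulAut.conj (g : Perm K)).toMonoidHom := by
      rw [Subgroup.closure_le]
      intro σ hσ
      refine Subgroup.subset_closure ?_
      show ((g : Perm K) * σ * (g : Perm K)⁻¹) ^ p = 1
      rw [conj_pow, show σ ^ p = 1 from hσ, mul_one, mul_inv_cancel]
    exact hmap hn
  rcases hnorm.eq_bot_or_eq_top with h | h
  · exfalso
    obtain ⟨l, l', hll⟩ := Fintype.one_lt_card_iff.1
      (show 1 < Fintype.card K by omega)
    obtain ⟨σ, hσ, hσl⟩ := exists_pCycle hk hll (by omega)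
    have hσA : σ ∈ alternatingGroup K := by
      rw [mem_alternatingGroup]
      rcases Int.units_eq_one_or (Perm.sign σ) with e | e
      · exact e
      · have h1 : Perm.sign σ ^ p = 1 := by rw [← map_pow, hσ, map_one]
        rw [e, hodd.neg_one_pow] at h1
        exact absurd h1 (by decide)
    have h1 : (⟨σ, hσA⟩ : alternatingGroup K) ∈ N.subgroupOf (alternatingGroup K) :=
      Subgroup.subset_closure hσ
    rw [h, Subgroup.mem_bot] at h1
    apply hll
    rw [← hσl, show σ = 1 from congrArg Subtype.val h1, Perm.one_apply]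
  · exact Subgroup.subgroupOf_eq_top.1 h

include hodd hk in
omit [Subsingleton E] in
/-- The even monomial elements with multipliers of product one. -/
theorem mono_mem {b : K → ZMod p} {π : Perm K} {a : K → (ZMod p)ˣ} (ha : ∏ j, a j = 1)
    (hs : (emb (mono b π a) : Perm ((ZMod p × K) ⊕ E)) ∈ alternatingGroup ((ZMod p × K) ⊕ E)) :
    (emb (mono b π a) : Perm ((ZMod p × K) ⊕ E)) ∈ H := by
  have htr : Perm.sign (tr b : Perm (ZMod p × K)) = 1 := by
    rcases Int.units_eq_one_or (Perm.sign (tr b : Perm (ZMod p × K))) with e | e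
    · exact e
    · have h1 : Perm.sign (tr b : Perm (ZMod p × K)) ^ p = 1 := by rw [← map_pow, tr_pow, map_one]
      rw [e, hodd.neg_one_pow] at h1
      exact absurd h1 (by decide)
  have hπ : π ∈ alternatingGroup K := by
    rw [mem_alternatingGroup, sign_emb, mono, map_mul, map_mul, htr, sign_dil a ha, sign_lift,
      one_mul, mul_one] at hs
    rw [mem_alternatingGroup]
    rcases Int.units_eq_one_or (Perm.sign π) with e | e
    · exact e
    · rw [e, hodd.neg_one_pow] at hs
      exact hs ▸ e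
  rw [mono, map_mul, map_mul]
  exact mul_mem (mul_mem (tr_mem hodd b) (lift_mem hodd hk hπ)) (dil_mem hodd hk ha)

end generation

end CfsgLib.FusionSimple.Alt
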