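/-
A Sylow subgroup of the alternating group for odd `p` and its normalizer.
-/
import Cfsg.Agent.FusionSimple.Alt.Monomial
import Cfsg.Agent.FusionSimple.Alt.Criterion
import Cfsg.Agent.Linear.Perfect

set_option autoImplicit false

namespace CfsgLib.FusionSimple.Alt

open Equiv Equiv.Perm

variable {p : ℕ} [hp : Fact p.Prime]

section centralizer

variable {K : Type*} [Fintype K] [DecidableEq K] {E : Type*} [Fintype E] [DecidableEq E]
  [Subsingleton E]

omit hp [Fintype K] [DecidableEq K] [Fintype E] [DecidableEq E] [Subsingleton E] in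
theorem moved_of_commute {α : Type*} {σ r : Perm α} (h : Commute σ r) {z : α} :
    r (σ z) = σ z ↔ r z = z := by
  rw [← Perm.mul_apply, ← h.eq, Perm.mul_apply]
  exact σ.injective.eq_iff

theorem centralizer_baseGrp {σ : Perm ((ZMod p × K) ⊕ E)}
    (h : ∀ r ∈ (baseGrp : Subgroup (Perm ((ZMod p × K) ⊕ E))), r * σ = σ * r) :
    σ ∈ (baseGrp : Subgroup (Perm ((ZMod p × K) ⊕ E))) := by
  have hc : ∀ f : K → ZMod p, Commute σ (emb (tr f)) := fun f => (h _ (tr_mem_baseGrp f)).symm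
  have hw : ∀ j : K, ∃ w : ZMod p, σ (Sum.inl (0, j)) = Sum.inl (w, j) := by
    intro j
    have hm : (emb (tr (Pi.single j 1)) : Perm ((ZMod p × K) ⊕ E)) (σ (Sum.inl (0, j))) ≠
        σ (Sum.inl (0, j)) := fun e => by
      have := (moved_of_commute (hc _)).1 e
      simp [emb_inl, tr_apply] at this
    rcases hσ : σ (Sum.inl (0, j)) with ⟨w, i⟩ | e
    · rw [hσ, emb_inl, tr_apply] at hm
      by_cases hij : i = j
      · exact ⟨w, by rw [hij]⟩
      · simp [Pi.single_eq_of_ne hij] at hm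
    · exact absurd (emb_inr _ e) (hσ ▸ hm)
  choose w hw using hw
  refine ⟨Multiplicative.ofAdd w, Equiv.ext fun z => ?_⟩
  show emb (tr w) z = σ z
  rcases z with ⟨x, j⟩ | e
  · have hx := congrArg (fun τ : Perm ((ZMod p × K) ⊕ E) => τ (Sum.inl (0, j))) (hc (fun _ => x)).eq
    simp only [Perm.mul_apply, emb_inl, tr_apply, zero_add, hw] at hx
    rw [emb_inl, tr_apply, hx, add_comm]
  · rw [emb_inr]
    rcases hσ : σ (Sum.inr e) with ⟨x, i⟩ | e'
    · exfalso
      have h1 : (emb (tr (fun _ => 1)) : Perm ((ZMod p × K) ⊕ E)) (σ (Sum.inr e)) = σ (Sum.inr e) :=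
        (moved_of_commute (hc _)).2 (emb_inr _ e)
      rw [hσ, emb_inl, tr_apply] at h1
      simp at h1
    · rw [Subsingleton.elim e' e]

end centralizer

variable {Z : Type*} [Fintype Z] [DecidableEq Z] {K₂ : Type*} [Fintype K₂] [DecidableEq K₂]
  {E : Type*} [Fintype E] [DecidableEq E] [Subsingleton E]

local notation "KK" => (ZMod p × Z) ⊕ K₂
local notation "AA" => (ZMod p × ((ZMod p × Z) ⊕ K₂)) ⊕ E

/-- The block subgroup. -/
def topGrp (Q : Subgroup (Perm Z)) (Q₂ : Subgroup (Perm K₂)) : Subgroup (Perm ((ZMod p × Z) ⊕ K₂)) :=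
  ((wreath (p := p) Q).prod Q₂).map (Perm.sumCongrHom (ZMod p × Z) K₂)

/-- The Sylow subgroup in `Perm`. -/
def bigSyl (Q : Subgroup (Perm Z)) (Q₂ : Subgroup (Perm K₂)) :
    Subgroup (Perm ((ZMod p × ((ZMod p × Z) ⊕ K₂)) ⊕ E)) :=
  (wreath (topGrp (p := p) Q Q₂)).map emb

/-- The pairs of translations on the big blocks with translations elsewhere. -/
def pairTr (c : (Z → ZMod p) × (Z → ZMod p) × (K₂ → ZMod p)) :
    Perm (ZMod p × ((ZMod p × Z) ⊕ K₂)) :=
  mono (Sum.elim (fun i => c.1 i.2) c.2.2) (Perm.sumCongr (tr c.2.1) 1) 1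

omit [Fintype Z] [DecidableEq Z] [Fintype K₂] [DecidableEq K₂] in
theorem pairTr_inl (c : (Z → ZMod p) × (Z → ZMod p) × (K₂ → ZMod p)) (x j : ZMod p) (z : Z) :
    pairTr c (x, Sum.inl (j, z)) = (x + c.1 z, Sum.inl (j + c.2.1 z, z)) := by
  simp [pairTr, mono_apply, tr_apply]

omit [Fintype Z] [DecidableEq Z] [Fintype K₂] [DecidableEq K₂] in
theorem pairTr_inr (c : (Z → ZMod p) × (Z → ZMod p) × (K₂ → ZMod p)) (x : ZMod p) (k : K₂) :
    pairTr c (x, Sum.inr k) = (x + c.2.2 k, Sum.inr k) := by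
  simp [pairTr, mono_apply]

omit [Fintype Z] [DecidableEq Z] [Fintype K₂] [DecidableEq K₂] in
theorem pairTr_add (c d : (Z → ZMod p) × (Z → ZMod p) × (K₂ → ZMod p)) :
    pairTr (c + d) = pairTr c * pairTr d := by
  refine Equiv.ext fun ⟨x, i⟩ => ?_
  rcases i with ⟨j, z⟩ | k
  · rw [Perm.mul_apply, pairTr_inl, pairTr_inl, pairTr_inl]
    simp [add_comm, add_left_comm]
  · rw [Perm.mul_apply, pairTr_inr, pairTr_inr, pairTr_inr]
    simp [add_comm, add_left_comm]

omit [Fintype Z] [DecidableEq Z] [Fintype K₂] [DecidableEq K₂] in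
theorem pairTr_zero : pairTr (0 : (Z → ZMod p) × (Z → ZMod p) × (K₂ → ZMod p)) = 1 := by
  refine Equiv.ext fun ⟨x, i⟩ => ?_
  rcases i with ⟨j, z⟩ | k
  · simp [pairTr_inl]
  · simp [pairTr_inr]

/-- The pairs of translations as a homomorphism. -/
def pairHom : Multiplicative ((Z → ZMod p) × (Z → ZMod p) × (K₂ → ZMod p)) →*
    Perm (ZMod p × ((ZMod p × Z) ⊕ K₂)) where
  toFun c := pairTr c.toAdd
  map_one' := pairTr_zero
  map_mul' c d := pairTr_add c.toAdd d.toAdd

/-- The subgroup of pairs of translations. -/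
def pairGrp : Subgroup (Perm ((ZMod p × ((ZMod p × Z) ⊕ K₂)) ⊕ E)) :=
  (emb.comp (pairHom (p := p) (Z := Z) (K₂ := K₂))).range

omit [Fintype Z] [DecidableEq Z] [Fintype K₂] [DecidableEq K₂] [Fintype E] [DecidableEq E]
  [Subsingleton E] in
theorem pairTr_mem (c : (Z → ZMod p) × (Z → ZMod p) × (K₂ → ZMod p)) :
    (emb (pairTr c) : Perm AA) ∈ pairGrp := ⟨Multiplicative.ofAdd c, rfl⟩

omit [Fintype Z] [Fintype K₂] [Fintype E] [DecidableEq E] [DecidableEq Z] [DecidableEq K₂]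
  [Subsingleton E] in
theorem pairGrp_le (Q : Subgroup (Perm Z)) (Q₂ : Subgroup (Perm K₂)) :
    (pairGrp : Subgroup (Perm AA)) ≤ bigSyl Q Q₂ := by
  rintro _ ⟨c, rfl⟩
  refine ⟨pairTr c.toAdd, ⟨Sum.elim (fun i => c.toAdd.1 i.2) c.toAdd.2.2,
    Perm.sumCongr (tr c.toAdd.2.1) 1,
    ⟨(tr c.toAdd.2.1, 1), ⟨tr_mem_wreath Q _, one_mem Q₂⟩, rfl⟩, ?_⟩, rfl⟩
  rw [pairTr, mono, dil_one, mul_one]

theorem centralizer_pairGrp {σ : Perm AA} (h : ∀ r ∈ (pairGrp : Subgroup (Perm AA)), r * σ = σ * r) :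
    σ ∈ (pairGrp : Subgroup (Perm AA)) := by
  have hc : ∀ c, Commute σ (emb (pairTr c)) := fun c => (h _ (pairTr_mem c)).symm
  have hu : ∀ z : Z, ∃ u v : ZMod p,
      σ (Sum.inl (0, Sum.inl (0, z))) = Sum.inl (u, Sum.inl (v, z)) := by
    intro z
    have hm : (emb (pairTr (Pi.single z 1, 0, 0)) : Perm AA) (σ (Sum.inl (0, Sum.inl (0, z)))) ≠
        σ (Sum.inl (0, Sum.inl (0, z))) := fun e => by
      have := (moved_of_commute (hc _)).1 e
      simp [emb_inl, pairTr_inl] at this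
    rcases hσ : σ (Sum.inl (0, Sum.inl (0, z))) with ⟨x, ⟨j, z'⟩ | k⟩ | e
    · rw [hσ, emb_inl, pairTr_inl] at hm
      by_cases hz : z' = z
      · exact ⟨x, j, by rw [hz]⟩
      · simp [Pi.single_eq_of_ne hz] at hm
    · rw [hσ, emb_inl, pairTr_inr] at hm
      simp at hm
    · exact absurd (emb_inr _ e) (hσ ▸ hm)
  have hw : ∀ k : K₂, ∃ w : ZMod p, σ (Sum.inl (0, Sum.inr k)) = Sum.inl (w, Sum.inr k) := by
    intro k
    have hm : (emb (pairTr (0, 0, Pi.single k 1)) : Perm AA) (σ (Sum.inl (0, Sum.inr k))) ≠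
        σ (Sum.inl (0, Sum.inr k)) := fun e => by
      have := (moved_of_commute (hc _)).1 e
      simp [emb_inl, pairTr_inr] at this
    rcases hσ : σ (Sum.inl (0, Sum.inr k)) with ⟨x, ⟨j, z'⟩ | k'⟩ | e
    · rw [hσ, emb_inl, pairTr_inl] at hm
      simp at hm
    · rw [hσ, emb_inl, pairTr_inr] at hm
      by_cases hk : k' = k
      · exact ⟨x, by rw [hk]⟩
      · simp [Pi.single_eq_of_ne hk] at hm
    · exact absurd (emb_inr _ e) (hσ ▸ hm)
  choose u v huv using hu
  choose w hw using hw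
  refine ⟨Multiplicative.ofAdd (u, v, w), Equiv.ext fun z => ?_⟩
  show emb (pairTr (u, v, w)) z = σ z
  rcases z with ⟨x, ⟨j, z⟩ | k⟩ | e
  · have hx := congrArg (fun τ : Perm AA => τ (Sum.inl (0, Sum.inl (0, z))))
      (hc ((fun _ => x), (fun _ => j), 0)).eq
    simp only [Perm.mul_apply, emb_inl, pairTr_inl, zero_add, huv] at hx
    rw [emb_inl, pairTr_inl, hx, add_comm x, add_comm j]
  · have hx := congrArg (fun τ : Perm AA => τ (Sum.inl (0, Sum.inr k))) (hc (0, 0, fun _ => x)).eq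
    simp only [Perm.mul_apply, emb_inl, pairTr_inr, zero_add, hw] at hx
    rw [emb_inl, pairTr_inr, hx, add_comm x]
  · rw [emb_inr]
    rcases hσ : σ (Sum.inr e) with ⟨x, i⟩ | e'
    · exfalso
      have h1 : (emb (pairTr ((fun _ => 1), 0, fun _ => 1)) : Perm AA) (σ (Sum.inr e)) = σ (Sum.inr e) :=
        (moved_of_commute (hc _)).2 (emb_inr _ e)
      rw [hσ, emb_inl] at h1
      rcases i with ⟨j, z⟩ | k
      · rw [pairTr_inl] at h1; simp at h1
      · rw [pairTr_inr] at h1; simp at h1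
    · rw [Subsingleton.elim e' e]

section action

local notation "SL2" => Matrix.SpecialLinearGroup (Fin 2) (ZMod p)

/-- The linear action on each big block. -/
def slFun (M : Matrix.SpecialLinearGroup (Fin 2) (ZMod p)) :
    ZMod p × ((ZMod p × Z) ⊕ K₂) → ZMod p × ((ZMod p × Z) ⊕ K₂)
  | (x, Sum.inl (j, z)) => (M.1 0 0 * x + M.1 0 1 * j, Sum.inl (M.1 1 0 * x + M.1 1 1 * j, z))
  | (x, Sum.inr k) => (x, Sum.inr k)

omit [Fintype Z] [DecidableEq Z] [Fintype K₂] [DecidableEq K₂] in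
theorem slFun_mul (M N : SL2) (q : ZMod p × KK) : slFun (M * N) q = slFun M (slFun N q) := by
  rcases q with ⟨x, ⟨j, z⟩ | k⟩
  · simp only [slFun, Matrix.SpecialLinearGroup.coe_mul, Matrix.mul_apply, Fin.sum_univ_two]
    exact Prod.ext (by ring) (congrArg Sum.inl (Prod.ext (by ring) rfl))
  · rfl

omit [Fintype Z] [DecidableEq Z] [Fintype K₂] [DecidableEq K₂] in
theorem slFun_one (q : ZMod p × KK) : slFun (1 : SL2) q = q := by
  rcases q with ⟨x, ⟨j, z⟩ | k⟩
  · simp [slFun]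
  · rfl

/-- The action as a homomorphism. -/
def slHom : Matrix.SpecialLinearGroup (Fin 2) (ZMod p) →* Perm (ZMod p × ((ZMod p × Z) ⊕ K₂)) where
  toFun M :=
    { toFun := slFun M
      invFun := slFun M⁻¹
      left_inv := fun q => by rw [← slFun_mul, inv_mul_cancel, slFun_one]
      right_inv := fun q => by rw [← slFun_mul, mul_inv_cancel, slFun_one] }
  map_one' := Equiv.ext slFun_one
  map_mul' M N := Equiv.ext (slFun_mul M N)

omit [Fintype Z] [DecidableEq Z] [Fintype K₂] [DecidableEq K₂] in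
theorem slHom_conj (M : SL2) (c : (Z → ZMod p) × (Z → ZMod p) × (K₂ → ZMod p)) :
    slHom M * pairTr c * (slHom M)⁻¹ =
      pairTr (fun z => M.1 0 0 * c.1 z + M.1 0 1 * c.2.1 z,
        fun z => M.1 1 0 * c.1 z + M.1 1 1 * c.2.1 z, c.2.2) := by
  rw [mul_inv_eq_iff_eq_mul]
  refine Equiv.ext fun ⟨x, i⟩ => ?_
  rw [Perm.mul_apply, Perm.mul_apply]
  rcases i with ⟨j, z⟩ | k
  · show slFun M (pairTr c (x, Sum.inl (j, z))) = pairTr _ (slFun M (x, Sum.inl (j, z)))
    simp only [pairTr_inl, slFun]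
    exact Prod.ext (by ring) (congrArg Sum.inl (Prod.ext (by ring) rfl))
  · show slFun M (pairTr c (x, Sum.inr k)) = pairTr _ (slFun M (x, Sum.inr k))
    simp only [pairTr_inr, slFun]

end action

/-- The multiplier torus element on the big blocks. -/
def torus (a : (ZMod p)ˣ) : Perm (ZMod p × ((ZMod p × Z) ⊕ K₂)) :=
  mono 0 (Perm.sumCongr (lift 1 * dil fun _ => a⁻¹) 1) (Sum.elim (fun _ => a) fun _ => 1)

omit [Fintype Z] [DecidableEq Z] [Fintype K₂] [DecidableEq K₂] in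
theorem slHom_diag (a : (ZMod p)ˣ) :
    (slHom (Matrix.SpecialLinearGroup.diag2n (show (0 : Fin 2) ≠ 1 by decide) (a : ZMod p) a.ne_zero) :
      Perm (ZMod p × KK)) = torus a := by
  set M : Matrix.SpecialLinearGroup (Fin 2) (ZMod p) := Matrix.SpecialLinearGroup.diag2n (show (0 : Fin 2) ≠ 1 by decide) (a : ZMod p) a.ne_zero
  have h00 : M.1 0 0 = a := by rw [Matrix.SpecialLinearGroup.diag2n_coe]; rfl
  have h01 : M.1 0 1 = 0 := by rw [Matrix.SpecialLinearGroup.diag2n_coe]; rfl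
  have h10 : M.1 1 0 = 0 := by rw [Matrix.SpecialLinearGroup.diag2n_coe]; rfl
  have h11 : M.1 1 1 = ((a⁻¹ : (ZMod p)ˣ) : ZMod p) := by
    rw [Matrix.SpecialLinearGroup.diag2n_coe, Units.val_inv_eq_inv_val]; rfl
  refine Equiv.ext fun ⟨x, i⟩ => ?_
  rcases i with ⟨j, z⟩ | k
  · show slFun M (x, Sum.inl (j, z)) = _
    simp only [slFun, torus, mono_apply, Perm.sumCongr_apply, Sum.map_inl, Sum.elim_inl,
      Perm.mul_apply, lift_apply, dil_apply, Pi.zero_apply, Perm.one_apply, h00, h01, h10, h11,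
      zero_mul, add_zero, zero_add]
  · show slFun M (x, Sum.inr k) = _
    simp [slFun, torus, mono_apply]

variable (hodd : Odd p) (Q : Subgroup (Perm Z)) (Q₂ : Subgroup (Perm K₂))

omit [Fintype Z] [DecidableEq Z] [Fintype K₂] [DecidableEq K₂] [Fintype E] [DecidableEq E]
  [Subsingleton E] in
theorem torus_conj_mem (a : (ZMod p)ˣ) {g : Perm AA} (hg : g ∈ bigSyl Q Q₂) :
    emb (torus a) * g * (emb (torus a))⁻¹ ∈ bigSyl Q Q₂ := by
  obtain ⟨s, hs, rfl⟩ := hg
  refine ⟨torus a * s * (torus a)⁻¹, ?_, by rw [map_mul, map_mul, map_inv]⟩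
  rw [torus, mono, tr_zero, one_mul]
  refine conj_wreath ?_ ?_ hs
  · rintro _ ⟨⟨π₁, π₂⟩, ⟨h1, h2⟩, rfl⟩
    refine ⟨((lift 1 * dil fun _ => a⁻¹) * π₁ * (lift 1 * dil fun _ => a⁻¹)⁻¹, π₂),
      ⟨conj_wreath (fun π hπ => by simpa using hπ) (fun _ _ _ => rfl) h1, h2⟩, ?_⟩
    show Perm.sumCongr _ _ = Perm.sumCongr _ 1 * Perm.sumCongr π₁ π₂ * (Perm.sumCongr _ 1)⁻¹
    rw [Perm.sumCongr_inv, Perm.sumCongr_mul, Perm.sumCongr_mul, inv_one, one_mul, mul_one]
  · rintro _ ⟨⟨π₁, π₂⟩, -, rfl⟩ (i | k) <;> rfl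

omit [DecidableEq Z] [DecidableEq K₂] [Subsingleton E] in
/-- Elements of the Sylow subgroup moving only `p` points lie in the base group. -/
theorem mem_baseGrp_of_card [DecidableEq Z] [DecidableEq K₂] {u : Perm AA} (hu : u ∈ bigSyl Q Q₂)
    (hcard : u.support.card = p) : u ∈ (baseGrp : Subgroup (Perm AA)) := by
  obtain ⟨_, ⟨f, π, -, rfl⟩, rfl⟩ := hu
  by_cases hπ : π = 1
  · rw [hπ, lift_one, mul_one]
    exact tr_mem_baseGrp f
  exfalso
  obtain ⟨j, hj⟩ : ∃ j, π j ≠ j := by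
    by_contra h
    push Not at h
    exact hπ (Perm.ext h)
  have hj' : π (π j) ≠ π j := fun h => hj (π.injective h)
  have hle : (Finset.univ.image fun x : ZMod p × Bool =>
      (Sum.inl (x.1, if x.2 then π j else j) : AA)).card ≤ p := by
    refine le_of_le_of_eq (Finset.card_le_card fun z hz => ?_) hcard
    obtain ⟨⟨x, b⟩, -, rfl⟩ := Finset.mem_image.1 hz
    rw [Perm.mem_support, emb_inl, Perm.mul_apply, lift_apply, tr_apply, ne_eq, Sum.inl.injEq,
      Prod.mk.injEq]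
    cases b
    · exact fun h => hj h.2
    · exact fun h => hj' h.2
  rw [Finset.card_image_of_injective, Finset.card_univ, Fintype.card_prod, ZMod.card,
    Fintype.card_bool] at hle
  · have := hp.out.pos
    omega
  · rintro ⟨x, b⟩ ⟨y, c⟩ hxy
    cases b <;> cases c <;> simp_all [Ne.symm hj]

omit [Fintype Z] [Fintype K₂] [DecidableEq Z] [DecidableEq K₂] [Fintype E] [DecidableEq E]
  [Subsingleton E] in
theorem baseGrp_le : (baseGrp : Subgroup (Perm AA)) ≤ bigSyl Q Q₂ := by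
  rintro _ ⟨f, rfl⟩
  exact ⟨tr f.toAdd, tr_mem_wreath _ _, rfl⟩

/-- Membership transfer from `Perm` to the alternating group. -/
theorem mem_closure_alt {α : Type*} [Fintype α] [DecidableEq α] {R : Subgroup (Perm α)} {t : Perm α}
    (ht : t ∈ Subgroup.closure {y : Perm α | y ∈ alternatingGroup α ∧
      y ∈ Subgroup.normalizer (R : Set (Perm α)) ∧ ∃ k : ℕ, y ^ p ^ k = 1}) :
    ∃ h : t ∈ alternatingGroup α, (⟨t, h⟩ : alternatingGroup α) ∈ Subgroup.closure
      {y : alternatingGroup α | y ∈ Subgroup.normalizer ((R.subgroupOf (alternatingGroup α) :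
        Subgroup _) : Set (alternatingGroup α)) ∧ ∃ k : ℕ, orderOf y = p ^ k} := by
  set Y := {y : alternatingGroup α | y ∈ Subgroup.normalizer ((R.subgroupOf (alternatingGroup α) :
        Subgroup _) : Set (alternatingGroup α)) ∧ ∃ k : ℕ, orderOf y = p ^ k}
  have h : t ∈ (Subgroup.closure Y).map (alternatingGroup α).subtype := by
    refine (Subgroup.closure_le _).2 ?_ ht
    rintro y ⟨hy, hyn, k, hk⟩
    refine ⟨⟨y, hy⟩, Subgroup.subset_closure ⟨?_, ?_⟩, rfl⟩
    · rw [Subgroup.mem_normalizer_iff]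
      intro g
      exact Subgroup.mem_normalizer_iff.1 hyn g.1
    · obtain ⟨j, -, hj⟩ := (Nat.dvd_prime_pow hp.out).1
        (orderOf_dvd_of_pow_eq_one (x := (⟨y, hy⟩ : alternatingGroup α)) (n := p ^ k)
          (Subtype.ext hk))
      exact ⟨j, hj⟩
  obtain ⟨t', ht', rfl⟩ := h
  exact ⟨t'.2, ht'⟩

include hodd in
omit [Subsingleton E] in
theorem torus_mem_closure (a : (ZMod p)ˣ) :
    (emb (torus a) : Perm AA) ∈ Subgroup.closure {y : Perm AA | y ∈ alternatingGroup AA ∧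
      y ∈ Subgroup.normalizer ((pairGrp : Subgroup (Perm AA)) : Set (Perm AA)) ∧
        ∃ k : ℕ, y ^ p ^ k = 1} := by
  rw [← slHom_diag]
  set Y := {y : Perm AA | y ∈ alternatingGroup AA ∧
    y ∈ Subgroup.normalizer ((pairGrp : Subgroup (Perm AA)) : Set (Perm AA)) ∧
      ∃ k : ℕ, y ^ p ^ k = 1}
  have htop : (Subgroup.closure Y).comap ((emb (E := E)).comp (slHom (Z := Z) (K₂ := K₂))) = ⊤ := by
    refine CfsgLib.Linear.sl_eq_top_of_transvections fun i j hij c => Subgroup.subset_closure ?_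
    set T := Matrix.SpecialLinearGroup.transvection hij c
    have hn : ∀ n : ℕ, T ^ n = Matrix.SpecialLinearGroup.transvection hij ((n : ZMod p) * c) := fun n => by
      induction n with
      | zero => simp [Matrix.SpecialLinearGroup.transvection_coeff_zero]
      | succ n ih =>
        rw [pow_succ, ih, ← Matrix.SpecialLinearGroup.transvection_add, Nat.cast_succ, add_one_mul]
    have hTp : (emb (slHom (Z := Z) (K₂ := K₂) T) : Perm AA) ^ p ^ 1 = 1 := by
      rw [pow_one, ← map_pow, ← map_pow, hn, ZMod.natCast_self, zero_mul,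
        Matrix.SpecialLinearGroup.transvection_coeff_zero, map_one, map_one]
    refine ⟨?_, ?_, 1, hTp⟩
    · show (emb (slHom (Z := Z) (K₂ := K₂) T) : Perm AA) ∈ alternatingGroup AA
      rw [mem_alternatingGroup]
      rcases Int.units_eq_one_or (Perm.sign (emb (slHom (Z := Z) (K₂ := K₂) T) : Perm AA)) with e | e
      · exact e
      · have h1 : Perm.sign (emb (slHom (Z := Z) (K₂ := K₂) T) : Perm AA) ^ p ^ 1 = 1 := by
          rw [← map_pow, hTp, map_one]
        rw [e, hodd.pow.neg_one_pow] at h1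
        exact absurd h1 (by decide)
    · have key : ∀ M : Matrix.SpecialLinearGroup (Fin 2) (ZMod p), ∀ g ∈ (pairGrp : Subgroup (Perm AA)),
          emb (slHom M) * g * (emb (slHom M))⁻¹ ∈ (pairGrp : Subgroup (Perm AA)) := by
        rintro M _ ⟨c, rfl⟩
        show emb (slHom M) * emb (pairTr c.toAdd) * (emb (slHom M))⁻¹ ∈ pairGrp
        rw [← map_inv, ← map_mul, ← map_mul, slHom_conj]
        exact pairTr_mem _
      show (emb (slHom (Z := Z) (K₂ := K₂) T) : Perm AA) ∈ _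
      rw [Subgroup.mem_normalizer_iff]
      refine fun g => ⟨key T g, fun h => ?_⟩
      have h2 := key T⁻¹ _ h
      rw [map_inv, map_inv] at h2
      simpa [mul_assoc] using h2
  exact (htop ▸ Subgroup.mem_top (Matrix.SpecialLinearGroup.diag2n
    (show (0 : Fin 2) ≠ 1 by decide) (a : ZMod p) a.ne_zero) :)

omit [Fintype E] [DecidableEq E] [Subsingleton E] [DecidableEq Z] [DecidableEq K₂] in
theorem mult_div (hZ : ∃ e, Fintype.card Z = p ^ e) (b : KK → ZMod p) (π : Perm KK)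
    (m : KK → (ZMod p)ˣ) :
    ∃ (b' : KK → ZMod p) (π' : Perm KK) (m' : KK → (ZMod p)ˣ),
      ((emb (torus (∏ i, m i)))⁻¹ * emb (mono b π m) : Perm AA) = emb (mono b' π' m') ∧
        ∏ i, m' i = 1 := by
  set a := ∏ i, m i
  set n : KK → (ZMod p)ˣ := Sum.elim (fun _ => a) fun _ => 1
  set ρ : Perm KK := Perm.sumCongr (lift 1 * dil fun _ => a⁻¹) 1
  have hpow : ∀ t : ℕ, a ^ p ^ t = a := fun t => by
    induction t with
    | zero => rw [pow_zero, pow_one]
    | succ t ih =>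
      rw [pow_succ, pow_mul, ih]
      exact Units.ext (by rw [Units.val_pow_eq_pow_val, ZMod.pow_card])
  have hn : ∏ i, n i = a := by
    obtain ⟨e, he⟩ := hZ
    rw [Fintype.prod_sum_type]
    simp only [n, Sum.elim_inl, Sum.elim_inr, Finset.prod_const, Finset.card_univ, one_pow, mul_one,
      Fintype.card_prod, ZMod.card, he, ← pow_succ', hpow]
  refine ⟨(fun j => ((n j)⁻¹ : (ZMod p)ˣ) * (b ∘ ⇑ρ) j), ρ⁻¹ * π,
    (n⁻¹ ∘ ⇑(ρ⁻¹ * π)) * m, ?_, ?_⟩
  · rw [← map_inv, ← map_mul, torus, mono, mono, mono, tr_zero, one_mul, _root_.mul_inv_rev, dil_inv,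
      lift_inv]
    congr 1
    refine Equiv.ext fun ⟨x, i⟩ => ?_
    simp only [Perm.mul_apply, tr_apply, lift_apply, dil_apply, Function.comp_apply, Pi.mul_apply,
      Pi.inv_apply, Units.val_mul, Perm.coe_inv, Equiv.apply_symm_apply]
    exact Prod.ext (by ring) rfl
  · simp only [Pi.mul_apply, Function.comp_apply, Finset.prod_mul_distrib]
    rw [Equiv.prod_comp (ρ⁻¹ * π) (fun i => (n⁻¹ : KK → (ZMod p)ˣ) i)]
    simp only [Pi.inv_apply, Finset.prod_inv_distrib, hn]
    exact inv_mul_cancel a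

include hodd in
/-- The normalizer of the Sylow subgroup. -/
theorem normalizer_le (hk : p ≤ Fintype.card KK) (hZ : ∃ e, Fintype.card Z = p ^ e) :
    Subgroup.normalizer (((bigSyl Q Q₂ : Subgroup (Perm AA)).subgroupOf (alternatingGroup AA) :
      Subgroup _) : Set (alternatingGroup AA)) ≤
      Subgroup.closure (resElts p ((bigSyl Q Q₂ : Subgroup (Perm AA)).subgroupOf (alternatingGroup AA))) := by
  rintro ⟨g, hgA⟩ hg
  set U := (bigSyl Q Q₂ : Subgroup (Perm AA)).subgroupOf (alternatingGroup AA)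
  -- the shape of `g`
  have hE : ∀ j : KK, ∃ f : KK → ZMod p, g * emb (tr (Pi.single j 1)) * g⁻¹ = emb (tr f) := by
    intro j
    have hA : (emb (tr (Pi.single j (1 : ZMod p))) : Perm AA) ∈ alternatingGroup AA := by
      have h := mem_pNorm (K := KK) (E := E) hodd (k := 1) (b := Pi.single j (1 : ZMod p)) (π := 1)
        (a := 1) (by rw [mono_tr_only, pow_one, tr_pow])
      rw [mono_tr_only] at h
      exact h.1
    have h1 : (⟨g, hgA⟩ : alternatingGroup AA) * ⟨_, hA⟩ * (⟨g, hgA⟩ : alternatingGroup AA)⁻¹ ∈ U :=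
      (Subgroup.mem_normalizer_iff.1 hg ⟨_, hA⟩).1 (baseGrp_le Q Q₂ (tr_mem_baseGrp _))
    obtain ⟨f, hf⟩ := mem_baseGrp_of_card Q Q₂ h1 (by
      show (g * emb (tr (Pi.single j 1)) * g⁻¹).support.card = p
      rw [Perm.card_support_conj, card_support_single j one_ne_zero])
    exact ⟨f.toAdd, hf.symm⟩
  obtain ⟨b, π, m, rfl⟩ := exists_mono hE
  set a := ∏ i, m i
  obtain ⟨htA, htcl⟩ := mem_closure_alt (torus_mem_closure (Z := Z) (K₂ := K₂) (E := E) hodd a)
  set t : alternatingGroup AA := ⟨emb (torus a), htA⟩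
  have htN : t ∈ Subgroup.normalizer ((U : Subgroup _) : Set (alternatingGroup AA)) := by
    rw [Subgroup.mem_normalizer_iff]
    refine fun x => ⟨fun h => torus_conj_mem Q Q₂ a h, fun h => ?_⟩
    have h2 := torus_conj_mem Q Q₂ a⁻¹ h
    have e : (torus a⁻¹ : Perm (ZMod p × KK)) = (torus a)⁻¹ := by
      rw [← slHom_diag, ← slHom_diag, ← map_inv]
      congr 1
      refine eq_inv_of_mul_eq_one_left (Subtype.ext (Matrix.ext fun i j => ?_))
      rw [Matrix.SpecialLinearGroup.coe_mul, Matrix.SpecialLinearGroup.diag2n_coe,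
        Matrix.SpecialLinearGroup.diag2n_coe, Matrix.diagonal_mul_diagonal,
        Matrix.SpecialLinearGroup.coe_one]
      refine congrFun (congrFun ?_ i) j
      rw [← Matrix.diagonal_one]
      congr 1
      funext k
      fin_cases k <;> simp only [Fin.zero_eta, Fin.mk_one, Fin.isValue, one_ne_zero, ↓reduceIte, Units.val_inv_eq_inv_val, inv_inv] <;>
        first | exact inv_mul_cancel₀ a.ne_zero | exact mul_inv_cancel₀ a.ne_zero
    rw [e, map_inv] at h2
    show (x : Perm AA) ∈ bigSyl Q Q₂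
    simpa [t, mul_assoc] using h2
  have hR' : t ∈ Subgroup.closure (resElts p U) := by
    refine Subgroup.subset_closure ⟨htN, (pairGrp : Subgroup (Perm AA)).subgroupOf _,
      fun x hx => pairGrp_le Q Q₂ hx, fun x hx => centralizer_pairGrp fun r hr => ?_, htcl⟩
    have hrA : r ∈ alternatingGroup AA := by
      obtain ⟨c, rfl⟩ := hr
      rw [mem_alternatingGroup]
      rcases Int.units_eq_one_or (Perm.sign ((emb.comp pairHom) c : Perm AA)) with e | e
      · exact e
      · have hc : c ^ p = 1 := by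
          refine Multiplicative.toAdd.injective ?_
          rw [toAdd_pow]
          ext i <;> simp
        have h1 : Perm.sign ((emb.comp pairHom) c : Perm AA) ^ p = 1 := by
          rw [← map_pow, ← map_pow, hc, map_one, map_one]
        rw [e, hodd.neg_one_pow] at h1
        exact absurd h1 (by decide)
    exact congrArg Subtype.val (Subgroup.mem_centralizer_iff.1 hx ⟨r, hrA⟩ hr)
  obtain ⟨b', π', m', he, hm'⟩ := mult_div (E := E) hZ b π m
  have hg'A : (emb (mono b' π' m') : Perm AA) ∈ alternatingGroup AA :=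
    he ▸ mul_mem (inv_mem htA) hgA
  obtain ⟨_, hcl⟩ := mem_closure_alt (mono_mem hodd hk hm' hg'A)
  have e : t⁻¹ * ⟨_, hgA⟩ = (⟨_, hg'A⟩ : alternatingGroup AA) := Subtype.ext he
  have hmem : t⁻¹ * ⟨_, hgA⟩ ∈ Subgroup.closure (resElts p U) := by
    refine Subgroup.subset_closure ⟨mul_mem (inv_mem htN) hg, (baseGrp : Subgroup (Perm AA)).subgroupOf _,
      fun x hx => baseGrp_le Q Q₂ hx, fun x hx => centralizer_baseGrp fun r hr => ?_, e ▸ hcl⟩
    have hrA : r ∈ alternatingGroup AA := by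
      obtain ⟨f, rfl⟩ := hr
      have h := mem_pNorm (K := KK) (E := E) hodd (k := 1) (b := f.toAdd) (π := 1) (a := 1)
        (by rw [mono_tr_only, pow_one, tr_pow])
      rw [mono_tr_only] at h
      exact h.1
    exact congrArg Subtype.val (Subgroup.mem_centralizer_iff.1 hx ⟨r, hrA⟩ hr)
  have := mul_mem hR' hmem
  rwa [mul_inv_cancel_left] at this

end CfsgLib.FusionSimple.Alt
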