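/-
The fusion systems of alternating groups of degree at least `p ^ 2`, congruent to `0` or `1` modulo
`p`, are simple.
-/
import Cfsg.Agent.FusionSimple.Alt.Closed
import Cfsg.Agent.FusionSimple.Alt.Normalizer
import Cfsg.Agent.AltSylow.Basic

set_option autoImplicit false

namespace CfsgLib.FusionSimple.Alt

open Equiv Equiv.Perm Cfsg

/-- The case `p = 2`. -/
theorem isSimple_two (α : Type*) [Fintype α] [DecidableEq α] (hn : 6 ≤ Fintype.card α)
    (S : Sylow 2 (alternatingGroup α)) :
    (groupFusionSystem (S : Subgroup (alternatingGroup α))).IsSimple 2 := by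
  haveI : Fact (Nat.Prime 2) := ⟨Nat.prime_two⟩
  obtain ⟨P, hP⟩ := (S.isPGroup'.map (alternatingGroup α).subtype).exists_le_sylow
  have hmem : ∀ x : alternatingGroup α, (x : Perm α) ∈ (P : Subgroup (Perm α)) →
      x ∈ (S : Subgroup (alternatingGroup α)) := by
    have h : (P : Subgroup (Perm α)).comap (alternatingGroup α).subtype =
        (S : Subgroup (alternatingGroup α)) :=
      S.3 (P.isPGroup'.comap_of_injective _ Subtype.val_injective)
        fun x hx => hP ⟨x, hx, rfl⟩
    exact fun x hx => h ▸ hx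
  refine isSimple_groupFusionSystem_of_inner S ?_
    (fun T hT => eq_bot_or_eq_of_closed S (closed_of_stronglyClosed hT) (by omega))
    fun g hg => ⟨g, hmem g ?_, fun x _ => rfl⟩
  · intro h
    haveI : Nontrivial α := Fintype.one_lt_card_iff_nontrivial.1 (by omega)
    have h2 : 2 ∣ Nat.card (alternatingGroup α) := by
      have h1 := two_mul_nat_card_alternatingGroup (α := α)
      rw [Nat.card_perm, Nat.card_eq_fintype_card (α := α)] at h1
      have h4 : 2 * 2 ∣ (Fintype.card α).factorial :=
        dvd_trans (by decide) (Nat.factorial_dvd_factorial hn)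
      rw [← h1] at h4
      exact Nat.dvd_of_mul_dvd_mul_left Nat.two_pos h4
    have h3 : 2 ∣ Nat.card (S : Subgroup (alternatingGroup α)) := S.dvd_card_of_dvd_card h2
    rw [h, Subgroup.card_bot] at h3
    omega
  · refine CfsgLib.AltSylow.normalizer_sylow_inf_alternating hn P ?_
    rw [Subgroup.mem_normalizer_iff]
    intro x
    constructor
    · rintro ⟨hxP, hxA⟩
      have h1 := (Subgroup.mem_normalizer_iff.1 hg ⟨x, hxA⟩).1 (hmem _ hxP)
      exact ⟨hP ⟨_, h1, rfl⟩,
        (alternatingGroup α).mul_mem ((alternatingGroup α).mul_mem g.2 hxA) ((alternatingGroup α).inv_mem g.2)⟩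
    · rintro ⟨hxP, hxA⟩
      have hxA' : x ∈ alternatingGroup α := by
        have h2 := mul_mem (mul_mem (inv_mem g.2) hxA) g.2
        rwa [show (g : Perm α)⁻¹ * ((g : Perm α) * x * (g : Perm α)⁻¹) * g = x by group] at h2
      have h1 := (Subgroup.mem_normalizer_iff.1 hg ⟨x, hxA'⟩).2 (hmem _ hxP)
      exact ⟨hP ⟨_, h1, rfl⟩, hxA'⟩

variable {p : ℕ} [hp : Fact p.Prime]

theorem emb_injective {K E : Type*} :
    Function.Injective (emb (p := p) (K := K) (E := E)) := fun σ τ h =>
  Equiv.ext fun x => Sum.inl.inj (by rw [← emb_inl (E := E), ← emb_inl (E := E), h])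

/-- The odd case. -/
theorem isSimple_odd (n : ℕ) (hodd : Odd p) (hnp : p ^ 2 ≤ n) (hb : n % p ≤ 1)
    (S : Sylow p (alternatingGroup (Fin n))) :
    (groupFusionSystem (S : Subgroup (alternatingGroup (Fin n)))).IsSimple p := by
  have hp1 : 1 < p := hp.out.one_lt
  have hp3 : 3 ≤ p := by rcases hodd with ⟨m, rfl⟩; omega
  have hdm := Nat.div_add_mod n p
  have hmod : n % p < p := Nat.mod_lt _ (by omega)
  set k := n / p with hk
  have hkp : p ≤ k := (Nat.le_div_iff_mul_le (by omega)).2 (by rwa [← pow_two])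
  set f := Nat.log p k
  obtain ⟨f', hf⟩ : ∃ f', f = f' + 1 := ⟨f - 1, (Nat.succ_pred_eq_of_pos (Nat.log_pos hp1 hkp)).symm⟩
  have hle : p ^ f ≤ k := Nat.pow_log_le_self p (by omega)
  have hlt : k < p ^ (f + 1) := Nat.lt_pow_succ_log_self hp1 k
  obtain ⟨b, hkb⟩ := Nat.exists_eq_add_of_le hle
  haveI : Subsingleton (Fin (n % p)) := Fin.subsingleton_iff_le_one.2 hb
  obtain ⟨Q, hQ⟩ := exists_isSylowSize (p := p) (Fin (p ^ f'))
  obtain ⟨Q₂, hQ₂⟩ := exists_isSylowSize (p := p) (Fin b)
  let KK := (ZMod p × Fin (p ^ f')) ⊕ Fin b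
  let AA := (ZMod p × KK) ⊕ Fin (n % p)
  have hpf : p * p ^ f' = p ^ f := by rw [hf, ← pow_succ']
  have hKK : Fintype.card KK = k := by
    simp only [KK, Fintype.card_sum, Fintype.card_prod, ZMod.card, Fintype.card_fin, hpf]
    omega
  have hAA : Fintype.card AA = n := by
    simp only [AA, Fintype.card_sum, Fintype.card_prod, ZMod.card, Fintype.card_fin]
    rw [show Fintype.card KK = k from hKK] at *
    omega
  -- the size of the subgroup
  have htop : Nat.card (topGrp (p := p) Q Q₂) = p ^ padicValNat p k.factorial := by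
    rw [topGrp, Subgroup.card_map_of_injective Perm.sumCongrHom_injective,
      Nat.card_congr (Subgroup.prodEquiv _ _).toEquiv, Nat.card_prod, isSylowSize_wreath hQ, hQ₂,
      ← pow_add, Nat.card_prod, Nat.card_zmod, Nat.card_fin, Nat.card_fin, hpf, hkb,
      val_factorial_pow_add f b (by omega)]
  have hbig : Nat.card (bigSyl (E := Fin (n % p)) (p := p) Q Q₂) = p ^ padicValNat p n.factorial := by
    rw [bigSyl, Subgroup.card_map_of_injective emb_injective, card_wreath, htop, hKK, ← pow_add]
    congr 1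
    conv_rhs => rw [← hdm, val_factorial k (n % p) hmod]
    omega
  have heven : bigSyl (E := Fin (n % p)) (p := p) Q Q₂ ≤ alternatingGroup AA := by
    intro x hx
    obtain ⟨j, hj⟩ := IsPGroup.of_card hbig ⟨x, hx⟩
    have hj' : x ^ p ^ j = 1 := congrArg Subtype.val hj
    rw [mem_alternatingGroup]
    rcases Int.units_eq_one_or (Perm.sign x) with e | e
    · exact e
    · have h1 : Perm.sign x ^ p ^ j = 1 := by rw [← map_pow, hj', map_one]
      rw [e, hodd.pow.neg_one_pow] at h1
      exact absurd h1 (by decide)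
  haveI : Nontrivial (Fin n) := Fin.nontrivial_iff_two_le.2 (by nlinarith)
  have hval : (Nat.card (alternatingGroup (Fin n))).factorization p = padicValNat p n.factorial := by
    have h1 := two_mul_nat_card_alternatingGroup (α := Fin n)
    rw [Nat.card_perm, Nat.card_fin] at h1
    rw [← h1, padicValNat.mul two_ne_zero Nat.card_pos.ne', padicValNat.eq_zero_of_not_dvd, zero_add,
      Nat.factorization_def _ hp.out]
    intro h2
    have := Nat.le_of_dvd two_pos h2
    omega
  let e : AA ≃ Fin n := Fintype.equivFinOfCardEq hAA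
  let φ : alternatingGroup AA ≃* alternatingGroup (Fin n) := e.altCongrHom
  let U₀ : Subgroup (alternatingGroup AA) :=
    (bigSyl (E := Fin (n % p)) (p := p) Q Q₂).subgroupOf (alternatingGroup AA)
  have hcard : Nat.card (U₀.map φ.toMonoidHom) =
      p ^ (Nat.card (alternatingGroup (Fin n))).factorization p := by
    rw [Subgroup.card_map_of_injective φ.injective,
      Nat.card_congr (Subgroup.subgroupOfEquivOfLe heven).toEquiv, hbig, hval]
  let U : Sylow p (alternatingGroup (Fin n)) := Sylow.ofCard (U₀.map φ.toMonoidHom) hcard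
  refine isSimple_of_closed_of_resElts U ?_
    (fun S T hT => eq_bot_or_eq_of_closed S hT (by rw [Fintype.card_fin]; nlinarith)) ?_ S
  · intro h
    have hUc : (U : Subgroup (alternatingGroup (Fin n))) = U₀.map φ.toMonoidHom := rfl
    have hc : Nat.card (U₀.map φ.toMonoidHom) = p ^ padicValNat p n.factorial := by
      rw [hcard, hval]
    rw [← hUc, h, Subgroup.card_bot] at hc
    have h1 : 1 ≤ padicValNat p n.factorial :=
      one_le_padicValNat_of_dvd (Nat.factorial_ne_zero n)
        (Nat.dvd_factorial (by omega) (le_trans (Nat.le_self_pow two_ne_zero p) hnp))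
    have h2 : p ^ 1 ≤ p ^ padicValNat p n.factorial := Nat.pow_le_pow_right (by omega) h1
    rw [pow_one] at h2
    omega
  · exact normalizer_le_closure_resElts_map φ
      (normalizer_le hodd Q Q₂ (by rw [show Fintype.card ((ZMod p × Fin (p ^ f')) ⊕ Fin b) = k from hKK]; exact hkp)
        ⟨f', Fintype.card_fin _⟩)

/-- The fusion system of an alternating group of degree `n ≥ p ^ 2`, `n % p ≤ 1`, is simple. -/
theorem isSimple_alternating (n : ℕ) (hn : 6 ≤ n) (hnp : p ^ 2 ≤ n) (hb : n % p ≤ 1)
    (S : Sylow p (alternatingGroup (Fin n))) :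
    (groupFusionSystem (S : Subgroup (alternatingGroup (Fin n)))).IsSimple p := by
  rcases hp.out.eq_two_or_odd' with rfl | hodd
  · exact isSimple_two (Fin n) (by rwa [Fintype.card_fin]) S
  · exact isSimple_odd n hodd hnp hb S

end CfsgLib.FusionSimple.Alt
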